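import Mathlib
import Cfsg.Agent.SpClassCount.Arith

/-!
Numbers for the classes of orthogonal groups of even dimension.
-/

set_option autoImplicit false

namespace OrthClassCount2558

open SpClassCount2482 (cs we prodA prodA_le)

/-- counting values of a part -/
def valT (q k m : ℕ) : ℕ := if k % 2 = 0 then (if m % 2 = 0 then q ^ (m / 2) else 0) else we q m

/-- counting values of a part without eigenvalues `±1` -/
def valE (q _k m : ℕ) : ℕ := if m % 2 = 0 then q ^ (m / 2) else 0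

/-- tuples with parts `2, ..., j + 1` -/
def rgen (v : ℕ → ℕ → ℕ) : ℕ → ℕ → ℕ
  | 0, i => if i = 0 then 1 else 0
  | j + 1, i => ∑ m ∈ Finset.range (i / (j + 2) + 1), v (j + 2) m * rgen v j (i - (j + 2) * m)

section

variable {q : ℕ} {t : ℝ}

lemma sum_cs_le (t : ℝ) (ht : 0 ≤ t) (hu : (q : ℝ) * t ^ 2 < 1) (M : ℕ) :
    ∑ m ∈ Finset.range M, (cs q m : ℝ) * t ^ m ≤ (1 + t) ^ 2 / (1 - q * t ^ 2) := by
  set u : ℝ := q * t ^ 2 with hu'
  have hu0 : 0 ≤ u := by positivity
  have key : ∀ L, ∑ m ∈ Finset.range (2 * L + 2), (cs q m : ℝ) * t ^ m =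
      (1 + 2 * t) * ∑ i ∈ Finset.range (L + 1), u ^ i + t ^ 2 * ∑ i ∈ Finset.range L, u ^ i := by
    intro L
    induction L with
    | zero =>
      simp [Finset.sum_range_succ, cs]
    | succ L ih =>
      rw [show 2 * (L + 1) + 2 = 2 * L + 2 + 1 + 1 by ring, Finset.sum_range_succ, Finset.sum_range_succ, ih,
        Finset.sum_range_succ (fun i => u ^ i) (L + 1), Finset.sum_range_succ (fun i => u ^ i) L]
      rw [cs, cs, if_neg (by omega), if_pos (by omega), show (2 * L + 1) / 2 = L by omega,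
        show (2 * L + 2) / 2 = L + 1 by omega]
      push_cast
      rw [hu']
      ring
  have hgeo : ∀ L, ∑ i ∈ Finset.range L, u ^ i ≤ 1 / (1 - u) := by
    intro L
    rw [le_div_iff₀ (by linarith), geom_sum_mul_neg]
    linarith [pow_nonneg hu0 L]
  refine (Finset.sum_le_sum_of_subset_of_nonneg (Finset.range_subset_range.2 (show M ≤ 2 * M + 2 by omega))
    fun i _ _ => by positivity).trans ?_
  rw [key]
  refine (add_le_add (mul_le_mul_of_nonneg_left (hgeo _) (by positivity))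
    (mul_le_mul_of_nonneg_left (hgeo _) (by positivity))).trans (le_of_eq ?_)
  ring

lemma sum_we_le (t : ℝ) (ht : 0 ≤ t) (hu : (q : ℝ) * t ^ 2 < 1) (M : ℕ) :
    ∑ m ∈ Finset.range M, (we q m : ℝ) * t ^ m ≤ (1 + t) ^ 4 / (1 - q * t ^ 2) := by
  have h := sum_cs_le t ht hu
  have hnn : ∀ L, 0 ≤ ∑ m ∈ Finset.range L, (cs q m : ℝ) * t ^ m := fun L => Finset.sum_nonneg fun i _ => by positivity
  have e : ∀ L, ∑ m ∈ Finset.range (L + 2), (we q m : ℝ) * t ^ m =
      (∑ m ∈ Finset.range (L + 2), (cs q m : ℝ) * t ^ m) + 2 * t * (∑ m ∈ Finset.range (L + 1), (cs q m : ℝ) * t ^ m)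
        + t ^ 2 * ∑ m ∈ Finset.range L, (cs q m : ℝ) * t ^ m := by
    intro L
    induction L with
    | zero => simp [Finset.sum_range_succ, we]; ring
    | succ L ih =>
      rw [Finset.sum_range_succ _ (L + 2), ih, Finset.sum_range_succ _ (L + 2), Finset.sum_range_succ _ (L + 1),
        Finset.sum_range_succ _ L, we]
      push_cast
      ring
  refine (Finset.sum_le_sum_of_subset_of_nonneg (Finset.range_subset_range.2 (show M ≤ M + 2 by omega))
    fun i _ _ => by positivity).trans ?_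
  rw [e]
  refine (add_le_add (add_le_add (h _) (mul_le_mul_of_nonneg_left (h _) (by positivity)))
    (mul_le_mul_of_nonneg_left (h _) (sq_nonneg t))).trans (le_of_eq ?_)
  ring

/-- an upper bound for the square root of `1 / 3` -/
noncomputable def sig0 : ℝ := 578 / 1000

/-- the square root of `1 / q` -/
noncomputable def sq' (q : ℕ) : ℝ := Real.sqrt (1 / (q : ℝ))

lemma sq'_spec (hq : 3 ≤ q) : 0 ≤ sq' q ∧ sq' q ≤ sig0 ∧ (q : ℝ) * sq' q ^ 2 = 1 ∧ sq' q ^ 2 ≤ 1 / 3 := by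
  have hq' : (3 : ℝ) ≤ q := by exact_mod_cast hq
  have h : sq' q ^ 2 = 1 / q := Real.sq_sqrt (by positivity)
  have h3 : (1 / q : ℝ) ≤ 1 / 3 := one_div_le_one_div_of_le (by norm_num) hq'
  refine ⟨Real.sqrt_nonneg _, ?_, ?_, h ▸ h3⟩
  · rw [sq', Real.sqrt_le_iff, sig0]
    exact ⟨by norm_num, h3.trans (by norm_num)⟩
  · rw [h]; field_simp

lemma geom_le {x c : ℝ} (hx : 0 ≤ x) (hxc : x ≤ c) (hc : c < 1) (M : ℕ) :
    ∑ i ∈ Finset.range M, x ^ i ≤ 1 / (1 - c) := by
  rw [le_div_iff₀ (by linarith)]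
  calc (∑ i ∈ Finset.range M, x ^ i) * (1 - c) ≤ (∑ i ∈ Finset.range M, x ^ i) * (1 - x) :=
        mul_le_mul_of_nonneg_left (by linarith) (Finset.sum_nonneg fun i _ => by positivity)
    _ ≤ 1 := by rw [geom_sum_mul_neg]; linarith [pow_nonneg hx M]

/-- the factor of a part -/
noncomputable def facE (k : ℕ) : ℝ := 1 / (1 - (1 / 3) ^ (k - 1))

/-- the factor of a part with eigenvalues -/
noncomputable def facT (k : ℕ) : ℝ := (if k % 2 = 1 then (1 + sig0 * (1 / 3) ^ (k / 2)) ^ 4 else 1) * facE k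

lemma facE_pos (j : ℕ) : 0 < facE (j + 2) := by
  have h3 : (1 / 3 : ℝ) ^ (j + 1) < 1 := pow_lt_one₀ (by norm_num) (by norm_num) (by omega)
  rw [facE, show j + 2 - 1 = j + 1 from rfl]
  exact div_pos one_pos (by linarith)

lemma facT_nonneg (j : ℕ) : 0 ≤ facT (j + 2) := by
  refine mul_nonneg ?_ (facE_pos j).le
  split_ifs
  · positivity
  · norm_num

lemma q_pow (hq : 3 ≤ q) (j : ℕ) :
    (q : ℝ) * (sq' q ^ (j + 2)) ^ 2 = (sq' q ^ 2) ^ (j + 1) ∧ (sq' q ^ 2) ^ (j + 1) ≤ (1 / 3 : ℝ) ^ (j + 1) := by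
  obtain ⟨-, -, h1, h3⟩ := sq'_spec hq
  refine ⟨?_, pow_le_pow_left₀ (sq_nonneg _) h3 _⟩
  rw [pow_right_comm, pow_succ (sq' q ^ 2) (j + 1), mul_left_comm, h1, mul_one]

lemma sum_valE_le (hq : 3 ≤ q) (j M : ℕ) :
    ∑ m ∈ Finset.range M, (valE q (j + 2) m : ℝ) * sq' q ^ ((j + 2) * m) ≤ facE (j + 2) := by
  obtain ⟨hs0, -, -, -⟩ := sq'_spec hq
  obtain ⟨e, hle⟩ := q_pow hq j
  have key : ∀ L, ∑ m ∈ Finset.range (2 * L), (valE q (j + 2) m : ℝ) * sq' q ^ ((j + 2) * m) =
      ∑ i ∈ Finset.range L, ((sq' q ^ 2) ^ (j + 1)) ^ i := by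
    intro L
    induction L with
    | zero => simp
    | succ L ih =>
      rw [show 2 * (L + 1) = 2 * L + 1 + 1 by ring, Finset.sum_range_succ, Finset.sum_range_succ, ih,
        Finset.sum_range_succ _ L, valE, valE, if_pos (by omega), if_neg (by omega),
        show 2 * L / 2 = L by omega, Nat.cast_zero, zero_mul, add_zero, Nat.cast_pow, ← e, mul_pow ((q : ℝ)),
        ← pow_mul, ← pow_mul, mul_assoc (j + 2)]
  refine (Finset.sum_le_sum_of_subset_of_nonneg (Finset.range_subset_range.2 (show M ≤ 2 * M by omega))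
    fun i _ _ => by positivity).trans ?_
  rw [key, facE, show j + 2 - 1 = j + 1 from rfl]
  exact geom_le (by positivity) hle (pow_lt_one₀ (by norm_num) (by norm_num) (by omega)) M

lemma sum_valT_le (hq : 3 ≤ q) (j M : ℕ) :
    ∑ m ∈ Finset.range M, (valT q (j + 2) m : ℝ) * sq' q ^ ((j + 2) * m) ≤ facT (j + 2) := by
  obtain ⟨hs0, hs1, -, hs3⟩ := sq'_spec hq
  obtain ⟨e, hle⟩ := q_pow hq j
  by_cases hk : (j + 2) % 2 = 1
  swap
  · rw [facT, if_neg hk, one_mul]
    refine le_trans (le_of_eq (Finset.sum_congr rfl fun m _ => ?_)) (sum_valE_le hq j M)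
    rw [valT, valE, if_pos (by omega)]
  have h3 : (1 / 3 : ℝ) ^ (j + 1) < 1 := pow_lt_one₀ (by norm_num) (by norm_num) (by omega)
  have ht : sq' q ^ (j + 2) ≤ sig0 * (1 / 3) ^ ((j + 2) / 2) := by
    conv_lhs => rw [show j + 2 = 2 * ((j + 2) / 2) + 1 by omega, pow_succ, pow_mul, mul_comm]
    exact mul_le_mul hs1 (pow_le_pow_left₀ (sq_nonneg _) hs3 _) (by positivity) (by rw [sig0]; norm_num)
  have h := sum_we_le (q := q) (sq' q ^ (j + 2)) (by positivity) (by rw [e]; linarith) M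
  rw [e] at h
  simp only [← pow_mul] at h
  simp only [valT, if_neg (show ¬ (j + 2) % 2 = 0 by omega)]
  refine (le_of_eq (Finset.sum_congr rfl fun m _ => rfl)).trans (h.trans ?_)
  rw [facT, if_pos hk, facE, show j + 2 - 1 = j + 1 from rfl, mul_one_div]
  rw [← pow_mul] at hle
  exact div_le_div₀ (by positivity) (pow_le_pow_left₀ (by positivity) (add_le_add le_rfl ht) _) (by linarith)
    (by linarith)

lemma sum_rgen_le {s : ℝ} (hs : 0 ≤ s) (v : ℕ → ℕ → ℕ) (fac : ℕ → ℝ) (hfac : ∀ j, 0 ≤ fac (j + 2))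
    (hv : ∀ j M, ∑ m ∈ Finset.range M, (v (j + 2) m : ℝ) * s ^ ((j + 2) * m) ≤ fac (j + 2)) :
    ∀ j N, ∑ i ∈ Finset.range N, (rgen v j i : ℝ) * s ^ i ≤ ∏ l ∈ Finset.range j, fac (l + 2)
  | 0, N => by
    rw [Finset.range_zero, Finset.prod_empty]
    rcases N with _ | N
    · simp
    · rw [Finset.sum_range_succ']
      simp [rgen]
  | j + 1, N => by
    have ih := sum_rgen_le hs v fac hfac hv j N
    rw [Finset.prod_range_succ]
    simp only [rgen, Nat.cast_sum, Finset.sum_mul]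
    let f : ℕ × ℕ → ℝ := fun z => ((v (j + 2) z.1 : ℝ) * s ^ ((j + 2) * z.1)) * ((rgen v j z.2 : ℝ) * s ^ z.2)
    let φ : (Σ _ : ℕ, ℕ) → ℕ × ℕ := fun x => (x.2, x.1 - (j + 2) * x.2)
    have hb : ∀ x ∈ (Finset.range N).sigma fun i => Finset.range (i / (j + 2) + 1),
        (j + 2) * x.2 ≤ x.1 ∧ x.1 < N := by
      intro x hx
      simp only [Finset.mem_sigma, Finset.mem_range, Nat.lt_succ_iff, Nat.le_div_iff_mul_le (Nat.succ_pos (j + 1))] at hx
      exact ⟨by rw [mul_comm]; exact hx.2, hx.1⟩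
    calc ∑ i ∈ Finset.range N, ∑ m ∈ Finset.range (i / (j + 2) + 1),
          ((v (j + 2) m * rgen v j (i - (j + 2) * m) : ℕ) : ℝ) * s ^ i
        = ∑ x ∈ (Finset.range N).sigma (fun i => Finset.range (i / (j + 2) + 1)), f (φ x) := by
          rw [Finset.sum_sigma' (Finset.range N)]
          refine Finset.sum_congr rfl fun x hx => ?_
          have := hb x hx
          simp only [f, φ, Nat.cast_mul]
          conv_lhs => rw [show x.1 = (j + 2) * x.2 + (x.1 - (j + 2) * x.2) by omega, pow_add]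
          rw [show (j + 2) * x.2 + (x.1 - (j + 2) * x.2) - (j + 2) * x.2 = x.1 - (j + 2) * x.2 by omega]
          ring
      _ = ∑ z ∈ ((Finset.range N).sigma (fun i => Finset.range (i / (j + 2) + 1))).image φ, f z := by
          rw [Finset.sum_image]
          intro x hx x' hx' he
          have h1 := hb x hx
          have h2 := hb x' hx'
          simp only [φ, Prod.mk.injEq] at he
          obtain ⟨i, m⟩ := x
          obtain ⟨i', m'⟩ := x'
          simp only at he h1 h2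
          obtain rfl := he.1
          obtain rfl : i = i' := by omega
          rfl
      _ ≤ ∑ z ∈ Finset.range N ×ˢ Finset.range N, f z := by
          refine Finset.sum_le_sum_of_subset_of_nonneg ?_ fun z _ _ => by positivity
          intro z hz
          obtain ⟨x, hx, rfl⟩ := Finset.mem_image.1 hz
          have h1 := hb x hx
          have h2 : x.2 ≤ (j + 2) * x.2 := Nat.le_mul_of_pos_left _ (by omega)
          simp only [φ, Finset.mem_product, Finset.mem_range]
          omega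
      _ = (∑ m ∈ Finset.range N, (v (j + 2) m : ℝ) * s ^ ((j + 2) * m)) *
            ∑ i ∈ Finset.range N, (rgen v j i : ℝ) * s ^ i := by
          rw [Finset.sum_mul_sum, Finset.sum_product]
      _ ≤ fac (j + 2) * ∏ l ∈ Finset.range j, fac (l + 2) :=
          mul_le_mul (hv j N) ih (Finset.sum_nonneg fun i _ => by positivity) (hfac j)
      _ = _ := mul_comm _ _

/-- the product coming from the eigenvalues -/
noncomputable def prodS (I : ℕ) : ℝ := ∏ l ∈ Finset.range I, (1 + sig0 * (1 / 3) ^ (l + 1))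

lemma prodE_eq (j : ℕ) : ∏ l ∈ Finset.range j, facE (l + 2) = (prodA j : ℝ) := by
  rw [prodA, Rat.cast_prod]
  refine Finset.prod_congr rfl fun l _ => ?_
  rw [facE, show l + 2 - 1 = l + 1 from rfl]
  push_cast
  rfl

lemma prodT_eq : ∀ j, ∏ l ∈ Finset.range j, facT (l + 2) = prodS (j / 2) ^ 4 * ∏ l ∈ Finset.range j, facE (l + 2)
  | 0 => by simp [prodS]
  | j + 1 => by
    rw [Finset.prod_range_succ, prodT_eq j, Finset.prod_range_succ, facT]
    split_ifs with h
    · rw [show (j + 1) / 2 = j / 2 + 1 by omega, prodS, prodS, Finset.prod_range_succ _ (j / 2),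
        show (j + 2) / 2 = j / 2 + 1 by omega]
      ring
    · rw [show (j + 1) / 2 = j / 2 by omega]
      ring

lemma prodS_le (I : ℕ) : prodS I ≤ 1312 / 1000 := by
  have hpos : ∀ l : ℕ, 1 ≤ 1 + sig0 * (1 / 3 : ℝ) ^ (l + 1) := fun l => by
    have : 0 ≤ sig0 * (1 / 3 : ℝ) ^ (l + 1) := by rw [sig0]; positivity
    linarith
  suffices h : ∀ I, 8 ≤ I → prodS I ≤ 1312 / 1000 * (1 - (1 / 3 : ℝ) ^ I) by
    refine le_trans ?_ ((h (I + 8) (by omega)).trans ?_)
    · rw [prodS, prodS, Finset.prod_range_add]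
      refine le_mul_of_one_le_right (Finset.prod_nonneg fun l _ => by linarith [hpos l]) ?_
      exact Finset.one_le_prod fun l _ => hpos _
    · linarith [show 0 ≤ (1 / 3 : ℝ) ^ (I + 8) by positivity]
  intro I hI
  induction I, hI using Nat.le_induction with
  | base => norm_num [prodS, sig0, Finset.prod_range_succ]
  | succ I hI ih =>
    rw [prodS, Finset.prod_range_succ, ← prodS]
    refine (mul_le_mul_of_nonneg_right ih (by linarith [hpos I])).trans ?_
    rw [mul_assoc]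
    refine mul_le_mul_of_nonneg_left ?_ (by norm_num)
    rw [pow_succ, sig0]
    nlinarith [sq_nonneg ((1 / 3 : ℝ) ^ I), show 0 ≤ (1 / 3 : ℝ) ^ I by positivity]

lemma we_le (hq : 3 ≤ q) (m : ℕ) : (we q m : ℝ) * sq' q ^ m ≤ 28 / 9 := by
  obtain ⟨hs0, hs1, hqs, hs3⟩ := sq'_spec hq
  set s := sq' q with hs
  rw [sig0] at hs1
  have hpow : ∀ i, (q : ℝ) ^ i * (s ^ 2) ^ i = 1 := fun i => by rw [← mul_pow, hqs, one_pow]
  rcases m with _ | _ | m
  · norm_num [we, cs]
  · norm_num [we, cs]; linarith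
  · rcases Nat.even_or_odd' m with ⟨i, rfl | rfl⟩
    · rcases i with _ | i
      · simp only [we, cs, Nat.mul_zero, Nat.zero_mod, zero_add, if_true, if_neg (show ¬ (1 : ℕ) % 2 = 0 by omega)]
        norm_num
        nlinarith
      · have e : we q (2 * (i + 1) + 2) = q ^ (i + 2) + 6 * q ^ (i + 1) + q ^ i := by
          rw [show 2 * (i + 1) + 2 = (2 * i + 2) + 2 by ring, we]
          simp only [cs, if_neg (show ¬ (2 * i + 1) % 2 = 0 by omega), if_pos (show (2 * i + 2) % 2 = 0 by omega),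
            if_neg (show ¬ (2 * i + 2 + 1) % 2 = 0 by omega), show (2 * i + 2 + 1) / 2 = i + 1 by omega,
            show (2 * i + 2) / 2 = i + 1 by omega, show (2 * i + 1) / 2 = i by omega]
          ring
        rw [e]
        push_cast
        calc ((q : ℝ) ^ (i + 2) + 6 * (q : ℝ) ^ (i + 1) + (q : ℝ) ^ i) * s ^ (2 * (i + 1) + 2)
            = (q : ℝ) ^ (i + 2) * (s ^ 2) ^ (i + 2) + 6 * ((q : ℝ) ^ (i + 1) * (s ^ 2) ^ (i + 1)) * s ^ 2 +
                ((q : ℝ) ^ i * (s ^ 2) ^ i) * (s ^ 2 * s ^ 2) := by ring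
          _ ≤ 28 / 9 := by rw [hpow, hpow, hpow]; nlinarith [mul_le_mul hs3 hs3 (sq_nonneg s) (by norm_num)]
    · have e : we q (2 * i + 1 + 2) = 4 * q ^ (i + 1) + 4 * q ^ i := by
        rw [we]
        simp only [cs, if_pos (show (2 * i + 2) % 2 = 0 by omega), if_neg (show ¬ (2 * i + 1) % 2 = 0 by omega),
          if_pos (show (2 * i) % 2 = 0 by omega), show (2 * i + 2) / 2 = i + 1 by omega,
          show (2 * i + 1) / 2 = i by omega, show (2 * i) / 2 = i by omega]
        ring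
      rw [e]
      push_cast
      calc (4 * (q : ℝ) ^ (i + 1) + 4 * (q : ℝ) ^ i) * s ^ (2 * i + 1 + 2)
          = (4 * ((q : ℝ) ^ (i + 1) * (s ^ 2) ^ (i + 1)) + 4 * ((q : ℝ) ^ i * (s ^ 2) ^ i) * s ^ 2) * s := by ring
        _ ≤ 28 / 9 := by rw [hpow, hpow]; nlinarith [mul_le_mul hs3 hs1 hs0 (by norm_num)]

lemma valE_le (hq : 3 ≤ q) (k m : ℕ) : (valE q k m : ℝ) * sq' q ^ m ≤ 1 := by
  obtain ⟨-, -, hqs, -⟩ := sq'_spec hq
  rw [valE]
  split_ifs with h
  · rw [Nat.cast_pow]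
    conv_lhs => arg 2; rw [show m = 2 * (m / 2) by omega]
    rw [pow_mul, ← mul_pow, hqs, one_pow]
  · simp

lemma conv_le {s : ℝ} (hs : 0 ≤ s) (N : ℕ) (V R : ℕ → ℕ) {C P : ℝ} (hC : 0 ≤ C)
    (hV : ∀ m, (V m : ℝ) * s ^ m ≤ C) (hR : ∑ i ∈ Finset.range (N + 1), (R i : ℝ) * s ^ i ≤ P) :
    ((∑ i ∈ Finset.range (N + 1), V (N - i) * R i : ℕ) : ℝ) * s ^ N ≤ C * P := by
  refine le_trans ?_ (mul_le_mul_of_nonneg_left hR hC)
  simp only [Nat.cast_sum, Nat.cast_mul, Finset.sum_mul, Finset.mul_sum]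
  refine Finset.sum_le_sum fun i hi => ?_
  have hi' := Finset.mem_range.1 hi
  calc (V (N - i) : ℝ) * R i * s ^ N = ((V (N - i) : ℝ) * s ^ (N - i)) * ((R i : ℝ) * s ^ i) := by
        conv_lhs => rw [show N = (N - i) + i by omega, pow_add, show N - i + i - i = N - i by omega]
        ring
    _ ≤ C * ((R i : ℝ) * s ^ i) := mul_le_mul_of_nonneg_right (hV _) (by positivity)

/-- the numerical bound -/
theorem total_le (hq : 3 ≤ q) (j n : ℕ) :
    ∑ i ∈ Finset.range (2 * n + 1), valT q 1 (2 * n - i) * rgen (valT q) j i +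
      ∑ i ∈ Finset.range (2 * n + 1), valE q 1 (2 * n - i) * rgen (valE q) j i ≤ 19 * q ^ n := by
  obtain ⟨hs0, -, hqs, -⟩ := sq'_spec hq
  have hA : (prodA j : ℝ) ≤ 1786 / 1000 := by
    have := Rat.cast_le (K := ℝ).2 (prodA_le j)
    push_cast at this
    linarith
  have hE := sum_rgen_le hs0 (valE q) facE (fun j => (facE_pos j).le) (sum_valE_le hq) j (2 * n + 1)
  have hT := sum_rgen_le hs0 (valT q) facT facT_nonneg (sum_valT_le hq) j (2 * n + 1)
  rw [prodE_eq] at hE
  rw [prodT_eq, prodE_eq] at hT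
  have h1 := conv_le hs0 (2 * n) (valT q 1) (rgen (valT q) j) (C := 28 / 9) (by norm_num)
    (fun m => by simpa [valT] using we_le hq m) (hT.trans (mul_le_mul (pow_le_pow_left₀
      (Finset.prod_nonneg fun l _ => by rw [sig0]; positivity) (prodS_le _) 4) hA
      (by rw [← prodE_eq]; exact Finset.prod_nonneg fun l _ => (facE_pos l).le) (by norm_num)))
  have h2 := conv_le hs0 (2 * n) (valE q 1) (rgen (valE q) j) zero_le_one (valE_le hq 1) (hE.trans hA)
  have hsum := add_le_add h1 h2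
  rw [← add_mul, ← Nat.cast_add] at hsum
  set T := ∑ i ∈ Finset.range (2 * n + 1), valT q 1 (2 * n - i) * rgen (valT q) j i +
      ∑ i ∈ Finset.range (2 * n + 1), valE q 1 (2 * n - i) * rgen (valE q) j i with hT'
  have hfin := mul_le_mul_of_nonneg_right (hsum.trans (show (28 / 9 : ℝ) * ((1312 / 1000) ^ 4 * (1786 / 1000)) +
      1 * (1786 / 1000) ≤ 19 by norm_num)) (show (0 : ℝ) ≤ (q : ℝ) ^ n by positivity)
  rw [mul_assoc, pow_mul, ← mul_pow, mul_comm (sq' q ^ 2), hqs, one_pow, mul_one] at hfin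
  exact_mod_cast hfin

end

end OrthClassCount2558
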