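import Mathlib
import Cfsg.Agent.SpClassCount.Poly
import Cfsg.Agent.SUClassCount.Dual

/-!
Invariant symmetric forms on modules over the polynomial ring.
-/

set_option autoImplicit false
set_option linter.unusedSectionVars false

universe u

namespace OrthClassCount2558

open Polynomial Module GLClassCount2478 SUClassCount2481 SpClassCount2482

variable {F : Type u} [Field F]

/-- an invariant symmetric form -/
structure IsInv {M : Type u} [AddCommGroup M] [Module F M] [Module F[X] M] (B : M →ₗ[F] M →ₗ[F] F) : Prop where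
  symm : ∀ x y, B x y = B y x
  inv : ∀ x y, B ((X : F[X]) • x) ((X : F[X]) • y) = B x y

/-- non-degeneracy -/
def Nondeg {M : Type u} [AddCommGroup M] [Module F M] (B : M →ₗ[F] M →ₗ[F] F) : Prop :=
  ∀ x, (∀ y, B x y = 0) → x = 0

variable {M : Type u} [AddCommGroup M] [Module F M] [Module F[X] M] [IsScalarTower F F[X] M]
  {B : M →ₗ[F] M →ₗ[F] F}

lemma C_smul' (c : F) (x : M) : (C c : F[X]) • x = c • x := by
  rw [← Polynomial.algebraMap_eq, algebraMap_smul]

lemma IsInv.pow (hB : IsInv B) : ∀ (k : ℕ) (x y : M), B ((X : F[X]) ^ k • x) ((X : F[X]) ^ k • y) = B x y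
  | 0, x, y => by rw [pow_zero, one_smul, one_smul]
  | k + 1, x, y => by rw [pow_succ, ← smul_smul, ← smul_smul, hB.pow k, hB.inv]

/-- the polynomial acting as the adjoint -/
noncomputable def sig (N : ℕ) (p : F[X]) : F[X] := p.comp (X ^ (N - 1))

/-- `X` has period `N` -/
def Period (F : Type u) [Field F] (M : Type u) [AddCommGroup M] [Module F[X] M] (N : ℕ) : Prop :=
  2 ≤ N ∧ ∀ x : M, (X : F[X]) ^ N • x = x

variable {N : ℕ}

lemma Period.mul (hN : Period F M N) : ∀ (k : ℕ) (x : M), (X : F[X]) ^ (N * k) • x = x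
  | 0, x => by rw [Nat.mul_zero, pow_zero, one_smul]
  | k + 1, x => by rw [Nat.mul_succ, pow_add, ← smul_smul, hN.2, hN.mul k]

lemma Period.mod (hN : Period F M N) {a b k : ℕ} (h : a = N * k + b) (x : M) :
    (X : F[X]) ^ a • x = (X : F[X]) ^ b • x := by
  rw [h, pow_add, ← smul_smul, hN.mul]

lemma IsInv.adj (hB : IsInv B) (hN : Period F M N) (p : F[X]) (x y : M) : B (p • x) y = B x (sig N p • y) := by
  induction p using Polynomial.induction_on generalizing x y with
  | C c => rw [sig, C_comp, C_smul', C_smul', map_smul, map_smul, LinearMap.smul_apply]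
  | add a b ha hb =>
    rw [sig, add_comp, add_smul, add_smul, map_add, map_add, LinearMap.add_apply, ha, hb]
    rfl
  | monomial k c ih =>
    rw [pow_succ, ← mul_assoc, ← smul_smul, ih, sig, sig, mul_comp (C c * X ^ k) X, X_comp, mul_comm _ ((X : F[X]) ^ (N - 1)),
      ← smul_smul]
    conv_rhs => rw [← hB.inv, smul_smul X (X ^ (N - 1)), ← pow_succ',
      show N - 1 + 1 = N by have := hN.1; omega, hN.2]

lemma sig_sig (hN : Period F M N) (p : F[X]) (x : M) : sig N (sig N p) • x = p • x := by
  induction p using Polynomial.induction_on generalizing x with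
  | C c => rw [sig, sig, C_comp, C_comp]
  | add a b ha hb => simp only [sig, add_comp, add_smul] at ha hb ⊢; rw [ha, hb]
  | monomial k c ih =>
    simp only [sig, pow_succ, ← mul_assoc] at ih ⊢
    rw [mul_comp, mul_comp, X_comp, pow_comp, X_comp, ← smul_smul, ← smul_smul, ih, ← pow_mul]
    congr 1
    obtain ⟨d, rfl⟩ : ∃ d, N = d + 2 := ⟨N - 2, by have := hN.1; omega⟩
    rw [hN.mod (k := d) (b := 1) (by rw [show d + 2 - 1 = d + 1 by omega]; ring), pow_one]

lemma sig_mul (N : ℕ) (p r : F[X]) : sig N (p * r) = sig N p * sig N r := mul_comp p r _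

lemma sig_pow (N : ℕ) (p : F[X]) (k : ℕ) : sig N (p ^ k) = sig N p ^ k := pow_comp p _ k

lemma smul_sum_term (N d i : ℕ) (c : F) (x : M) (hN : Period F M N) (hi : i ≤ d) :
    ((X : F[X]) ^ d * (C c * (X ^ (N - 1)) ^ i)) • x = (C c * X ^ (d - i)) • x := by
  rw [← pow_mul, mul_left_comm, ← pow_add, ← smul_smul, ← smul_smul,
    hN.mod (a := d + (N - 1) * i) (b := d - i) (k := i)]
  obtain ⟨e, rfl⟩ : ∃ e, N = e + 1 := ⟨N - 1, by have := hN.1; omega⟩
  obtain ⟨j, rfl⟩ : ∃ j, d = i + j := ⟨d - i, by omega⟩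
  rw [Nat.add_sub_cancel, Nat.add_sub_cancel_left]
  ring

lemma rev_smul (hN : Period F M N) (p : F[X]) (x : M) :
    p.reverse • x = sig N p • ((X : F[X]) ^ p.natDegree • x) := by
  rw [smul_smul, mul_comm, sig, Polynomial.comp, eval₂_eq_sum_range, Finset.mul_sum, Finset.sum_smul,
    Finset.sum_congr rfl fun i hi => smul_sum_term N _ i _ x hN (Nat.lt_succ_iff.1 (Finset.mem_range.1 hi)),
    ← Finset.sum_smul, ← Finset.sum_range_reflect]
  congr 1
  conv_lhs => rw [as_sum_range' p.reverse (p.natDegree + 1) (Nat.lt_succ_of_le (reverse_natDegree_le p))]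
  refine Finset.sum_congr rfl fun i hi => ?_
  have hi' : i ≤ p.natDegree := Nat.lt_succ_iff.1 (Finset.mem_range.1 hi)
  rw [Nat.succ_eq_add_one, Nat.add_sub_cancel, coeff_reverse, revAt_le hi', show p.natDegree - (p.natDegree - i) = i by omega,
    ← C_mul_X_pow_eq_monomial]

lemma du_pow (f : F[X]) : ∀ a : ℕ, du (f ^ a) = du f ^ a
  | 0 => by rw [pow_zero, pow_zero, du, ← C_1, reverse_C]; simp
  | a + 1 => by rw [pow_succ, pow_succ, du_mul, du_pow f a]

/-- the multiplier relating the dual polynomial and the adjoint -/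
noncomputable def dfac (f : F[X]) : F[X] := C (f.coeff 0)⁻¹ * X ^ f.natDegree

lemma du_smul (hN : Period F M N) (f : F[X]) (x : M) : du f • x = sig N f • (dfac f • x) := by
  rw [du, ← smul_smul, rev_smul hN, smul_smul (X ^ f.natDegree), dfac, mul_comm]

lemma IsInv.ker_perp (hB : IsInv B) (hN : Period F M N) (f : F[X]) (a : ℕ) {x : M} (hx : f ^ a • x = 0) (w : M) :
    B x (du f ^ a • w) = 0 := by
  rw [← du_pow, du_smul hN, ← hB.adj hN, hx, map_zero, LinearMap.zero_apply]

lemma IsInv.kill (hB : IsInv B) (hN : Period F M N) {f h : F[X]} {a b : ℕ} (hco : IsCoprime (du f) h)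
    {x w : M} (hx : f ^ a • x = 0) (hw : h ^ b • w = 0) : B x w = 0 := by
  obtain ⟨c, d, hcd⟩ := hco.pow (m := a) (n := b)
  have : w = du f ^ a • (c • w) := by
    conv_lhs => rw [← one_smul F[X] w, ← hcd, add_smul, ← smul_smul d, hw, smul_zero, add_zero, mul_comm,
      ← smul_smul]
  rw [this]
  exact hB.ker_perp hN f a hx _

/-! ### Counting data -/

/-- exponent of the kernel of `f ^ e` -/
noncomputable def sx (D : Multiset (F[X] × ℕ)) (f : F[X]) (e : ℕ) : ℕ := by
  classical
  exact (D.map fun x => if x.1 = f then f.natDegree * min x.2 e else 0).sum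

/-- exponent of the cardinality -/
noncomputable def dim' (D : Multiset (F[X] × ℕ)) : ℕ := (D.map fun x => x.2 * x.1.natDegree).sum

/-- the kernels are those prescribed by the multiset -/
def HasData (M : Type u) [AddCommGroup M] [Module F[X] M] (D : Multiset (F[X] × ℕ)) : Prop :=
  Nat.card M = Nat.card F ^ dim' D ∧
    ∀ f : F[X], f.Monic → Irreducible f → ∀ e : ℕ, kc M (f ^ e) = Nat.card F ^ sx D f e

lemma sx_add (D E : Multiset (F[X] × ℕ)) (f : F[X]) (e : ℕ) : sx (D + E) f e = sx D f e + sx E f e := by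
  classical simp [sx]

lemma dim'_add (D E : Multiset (F[X] × ℕ)) : dim' (D + E) = dim' D + dim' E := by simp [dim']

/-- number of parts of `f` above `e` -/
noncomputable def above (D : Multiset (F[X] × ℕ)) (f : F[X]) (e : ℕ) : ℕ := by
  classical
  exact D.countP fun x => x.1 = f ∧ e < x.2

lemma sx_succ (D : Multiset (F[X] × ℕ)) (f : F[X]) (e : ℕ) :
    sx D f (e + 1) = sx D f e + f.natDegree * above D f e := by
  classical
  induction D using Multiset.induction_on with
  | empty => simp [sx, above]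
  | cons x t ih =>
    simp only [sx, above, Multiset.map_cons, Multiset.sum_cons, Multiset.countP_cons] at ih ⊢
    rw [ih, mul_add]
    by_cases h : x.1 = f
    · simp only [h, true_and, if_true]
      by_cases h' : e < x.2
      · rw [if_pos h', show min x.2 (e + 1) = e + 1 by omega, show min x.2 e = e by omega]; ring
      · rw [if_neg h', show min x.2 (e + 1) = x.2 by omega, show min x.2 e = x.2 by omega]; ring
    · simp only [h, false_and, if_false]; ring

lemma above_split [DecidableEq F[X]] (D : Multiset (F[X] × ℕ)) (f : F[X]) (e : ℕ) :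
    above D f e = D.count (f, e + 1) + above D f (e + 1) := by
  classical
  induction D using Multiset.induction_on with
  | empty => simp [above]
  | cons x t ih =>
    obtain ⟨p, m⟩ := x
    simp only [above, Multiset.countP_cons, Multiset.count_cons, Prod.mk.injEq] at ih ⊢
    rw [ih]
    by_cases h : p = f
    · subst h
      simp only [true_and]
      split_ifs <;> omega
    · simp only [h, Ne.symm h, false_and, if_false]; omega

lemma above_zero_of_le (D : Multiset (F[X] × ℕ)) (f : F[X]) (e : ℕ) (h : ∀ x ∈ D, x.1 = f → x.2 ≤ e) :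
    above D f e = 0 := by
  classical
  rw [above, Multiset.countP_eq_zero]
  exact fun x hx hc => by have := h x hx hc.1; omega

variable [Finite F]

lemma kc_prod {M N' : Type u} [AddCommGroup M] [Module F[X] M] [AddCommGroup N'] [Module F[X] N'] (h : F[X]) :
    kc (M × N') h = kc M h * kc N' h := by
  unfold kc
  rw [← Nat.card_prod]
  exact Nat.card_congr ((Equiv.subtypeEquivRight fun x => by simp [Prod.ext_iff]).trans
    (Equiv.subtypeProdEquivProd (p := fun x : M => h • x = 0) (q := fun x : N' => h • x = 0)))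

lemma HasData.prod {M N' : Type u} [AddCommGroup M] [Module F[X] M] [AddCommGroup N'] [Module F[X] N']
    {D E : Multiset (F[X] × ℕ)} (h1 : HasData M D) (h2 : HasData N' E) : HasData (M × N') (D + E) :=
  ⟨by rw [Nat.card_prod, h1.1, h2.1, dim'_add, pow_add],
    fun f hf hi e => by rw [kc_prod, h1.2 f hf hi e, h2.2 f hf hi e, sx_add, pow_add]⟩

lemma HasData.congr {M N' : Type u} [AddCommGroup M] [Module F[X] M] [AddCommGroup N'] [Module F[X] N']
    {D : Multiset (F[X] × ℕ)} (h : HasData M D) (E : M ≃ₗ[F[X]] N') : HasData N' D :=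
  ⟨by rw [← Nat.card_congr E.toEquiv, h.1], fun f hf hi e => by
    haveI := Fintype.ofFinite F
    rw [← kc_congr E, h.2 f hf hi e]⟩

lemma hasData_blk {f : F[X]} (hf : f.Monic) (hfi : Irreducible f) (m : ℕ) :
    HasData (blk (f, m)) ({(f, m)} : Multiset (F[X] × ℕ)) := by
  classical
  haveI := Fintype.ofFinite F
  refine ⟨?_, fun g hg hgi e => ?_⟩
  · rw [dim', Multiset.map_singleton, Multiset.sum_singleton, ← natDegree_pow, Nat.card_eq_fintype_card (α := F)]
    exact natCard_quot (hf.pow m)
  · rw [kc_blk hg hgi (x := (f, m)) hf hfi e, sx, Multiset.map_singleton, Multiset.sum_singleton, Nat.card_eq_fintype_card]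

/-! ### Congruence of nearby forms -/

/-- forms agreeing on the socle are isometric -/
theorem congr_of_socle {N' : Type u} [AddCommGroup N'] [Module F N'] [Module F[X] N'] [IsScalarTower F F[X] N']
    [Finite N'] (h2 : (2 : F) ≠ 0) {B₁ B₂ : N' →ₗ[F] N' →ₗ[F] F} (h₁ : IsInv B₁) (h₂ : IsInv B₂)
    (hnd : Nondeg B₁) (hN : Period F N' N) (π : F[X]) (m : ℕ) (hm : 1 ≤ m)
    (hkill : ∀ x : N', π ^ m • x = 0)
    (hker : ∀ x : N', π ^ (m - 1) • x = 0 → ∃ y, x = π • y)
    (hsoc : ∀ x y : N', B₁ (π ^ (m - 1) • x) y = B₂ (π ^ (m - 1) • x) y) :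
    ∃ φ : N' →ₗ[F[X]] N', ∀ x y, B₁ (φ x) (φ y) = B₂ x y := by
  haveI : Module.Finite F N' := Module.Finite.of_finite
  have hinj : Function.Injective B₁ := by
    intro a b hab
    refine sub_eq_zero.1 (hnd _ fun y => ?_)
    rw [map_sub, LinearMap.sub_apply, hab, sub_self]
  let D₁ : N' ≃ₗ[F] Module.Dual F N' := LinearEquiv.ofBijective B₁ ⟨hinj,
    (LinearMap.injective_iff_surjective_of_finrank_eq_finrank Subspace.dual_finrank_eq.symm).1 hinj⟩
  have hD : ∀ x y, B₁ (D₁.symm (B₂ x)) y = B₂ x y := fun x y =>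
    LinearMap.congr_fun (D₁.apply_symm_apply (B₂ x)) y
  let T : N' →ₗ[F[X]] N' :=
    { toFun := fun x => D₁.symm (B₂ x)
      map_add' := fun x y => by rw [map_add, map_add]
      map_smul' := fun p x => hinj (LinearMap.ext fun y => by
        rw [RingHom.id_apply, hD, h₂.adj hN, h₁.adj hN, hD]) }
  have hT : ∀ x y, B₁ (T x) y = B₂ x y := hD
  have hsym : ∀ x y, B₁ (T x) y = B₁ x (T y) := fun x y => by
    rw [hT, h₂.symm, h₁.symm x (T y), hT]
  have hsoc' : ∀ x, π ^ (m - 1) • (T x - x) = 0 := fun x => hnd _ fun y => by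
    rw [smul_sub, ← map_smul, map_sub, LinearMap.sub_apply, hT, hsoc, sub_self]
  let S : Module.End F[X] N' := T - 1
  have hS : ∀ j x, ∃ y, (S ^ j) x = π ^ j • y := by
    intro j
    induction j with
    | zero => exact fun x => ⟨x, by rw [pow_zero, pow_zero, one_smul]; rfl⟩
    | succ j ih =>
      intro x
      obtain ⟨y, hy⟩ := ih x
      obtain ⟨z, hz⟩ := hker _ (hsoc' y)
      refine ⟨z, ?_⟩
      rw [pow_succ' S, Module.End.mul_apply, hy, map_smul]
      show π ^ j • (T y - y) = _
      rw [hz, smul_smul, ← pow_succ]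
  have hSm : S ^ m = 0 := LinearMap.ext fun x => by
    obtain ⟨y, hy⟩ := hS m x
    rw [hy, hkill]
    rfl
  haveI := Fintype.ofFinite F
  obtain ⟨p, hcp⟩ := CharP.exists F
  haveI : Fact p.Prime := ⟨CharP.char_is_prime F p⟩
  have hodd : Odd p := (Fact.out : p.Prime).odd_of_ne_two fun h => by
    subst h
    exact h2 (CharP.cast_eq_zero F 2)
  have hp0 : ∀ x : N', p • x = 0 := fun x => by
    rw [← Nat.cast_smul_eq_nsmul F, CharP.cast_eq_zero, zero_smul]
  rcases subsingleton_or_nontrivial N' with hs | hs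
  · exact ⟨0, fun x y => by rw [Subsingleton.elim x 0, map_zero, map_zero, map_zero]; rfl⟩
  haveI : CharP (Module.End F[X] N') p := by
    refine (CharP.charP_iff_prime_eq_zero (Fact.out : p.Prime)).2 (LinearMap.ext fun x => ?_)
    rw [Module.End.natCast_apply]
    exact hp0 x
  have hTp : (T : Module.End F[X] N') ^ p ^ m = 1 := by
    have h1 := sub_pow_char_pow_of_commute (R := Module.End F[X] N') (p := p) m (x := T) (y := 1)
      (Commute.one_right _)
    rw [show T - 1 = S from rfl, one_pow] at h1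
    have h3 : S ^ p ^ m = 0 := pow_eq_zero_of_le (Nat.lt_pow_self (Fact.out : p.Prime).one_lt).le hSm
    rw [h3] at h1
    exact sub_eq_zero.1 h1.symm
  obtain ⟨k, hk⟩ : Odd (p ^ m) := hodd.pow
  have hpow : ∀ j x y, B₁ (((T : Module.End F[X] N') ^ j) x) y = B₁ x (((T : Module.End F[X] N') ^ j) y) := by
    intro j
    induction j with
    | zero => intro x y; rfl
    | succ j ih =>
      intro x y
      conv_lhs => rw [pow_succ, Module.End.mul_apply, ih, hsym]
      rw [pow_succ', Module.End.mul_apply]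
  refine ⟨(T : Module.End F[X] N') ^ (k + 1), fun x y => ?_⟩
  rw [hpow, ← Module.End.mul_apply, ← pow_add, show k + 1 + (k + 1) = p ^ m + 1 by omega, pow_succ, hTp, one_mul,
    ← hsym, hT]

end OrthClassCount2558
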