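import Mathlib
import Cfsg.Agent.Lib.Forms.Disc
import Cfsg.Agent.OrthClassCount.Forms

/-!
Discriminants of invariant symmetric forms.
-/

set_option autoImplicit false
set_option linter.unusedSectionVars false

universe u

namespace OrthClassCount2558

open Polynomial Module GLClassCount2478 SUClassCount2481
open Cfsg.Agent.Forms (Disc.gram Disc.det_gram_change Disc.det_gram_ne_zero)

variable {F : Type u} [Field F] [Finite F]

/-- the quadratic character -/
noncomputable def chi (x : F) : ℤ := by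
  classical
  exact @quadraticChar F _ (Fintype.ofFinite F) _ x

lemma chi_mul (a b : F) : chi (a * b) = chi a * chi b := by
  classical
  exact map_mul (@quadraticChar F _ (Fintype.ofFinite F) _) a b

lemma chi_one : chi (1 : F) = 1 := by
  classical
  exact map_one (@quadraticChar F _ (Fintype.ofFinite F) _)

lemma chi_pow (a : F) : ∀ k : ℕ, chi (a ^ k) = chi a ^ k
  | 0 => by rw [pow_zero, pow_zero, chi_one]
  | k + 1 => by rw [pow_succ, pow_succ, chi_mul, chi_pow a k]

lemma chi_cases {a : F} (ha : a ≠ 0) : chi a = 1 ∨ chi a = -1 := by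
  classical
  exact @quadraticChar_dichotomy F _ (Fintype.ofFinite F) _ a ha

lemma chi_ne {a : F} (ha : a ≠ 0) : chi a ≠ 0 := by
  rcases chi_cases ha with h | h <;> rw [h] <;> norm_num

lemma chi_sq {a : F} (ha : a ≠ 0) : chi (a * a) = 1 := by
  rw [chi_mul]
  rcases chi_cases ha with h | h <;> rw [h] <;> rfl

lemma chi_one_iff {a : F} (ha : a ≠ 0) : chi a = 1 ↔ IsSquare a := by
  classical
  exact @quadraticChar_one_iff_isSquare F _ (Fintype.ofFinite F) _ a ha

lemma chi_nonsquare {a : F} (ha : ¬ IsSquare a) : chi a = -1 := by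
  have h0 : a ≠ 0 := fun h => ha (h ▸ ⟨0, by simp⟩)
  exact (chi_cases h0).resolve_left fun h => ha ((chi_one_iff h0).1 h)

lemma isSquare_of_chi_eq {a b : F} (ha : a ≠ 0) (hb : b ≠ 0) (h : chi a = chi b) : IsSquare (a * b) := by
  rw [← chi_one_iff (mul_ne_zero ha hb), chi_mul, h, ← chi_mul, chi_sq hb]

lemma exists_nonsquare (h2 : (2 : F) ≠ 0) : ∃ d : F, d ≠ 0 ∧ chi d = -1 := by
  haveI := Fintype.ofFinite F
  obtain ⟨d, hd⟩ := FiniteField.exists_nonsquare (F := F) fun h => h2 (by
    haveI := ringChar.of_eq h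
    exact CharP.cast_eq_zero F 2)
  exact ⟨d, fun h => hd (h ▸ ⟨0, by simp⟩), chi_nonsquare hd⟩

section

variable {M : Type u} [AddCommGroup M] [Module F M] [Finite M]

/-- the class of the discriminant -/
noncomputable def dsc (B : M →ₗ[F] M →ₗ[F] F) : ℤ :=
  haveI : Module.Finite F M := Module.Finite.of_finite
  chi (Disc.gram B (Module.finBasis F M)).det

lemma dsc_eq {ι : Type*} [Fintype ι] [DecidableEq ι] (B : M →ₗ[F] M →ₗ[F] F) (b : Basis ι F M) :
    dsc B = chi (Disc.gram B b).det := by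
  haveI : Module.Finite F M := Module.Finite.of_finite
  obtain ⟨d, hd, h⟩ := Disc.det_gram_change B (Module.finBasis F M) b
  rw [dsc, h, chi_mul (d * d), chi_sq hd, one_mul]

lemma dsc_ne_zero {B : M →ₗ[F] M →ₗ[F] F} (hs : ∀ x y, B x y = B y x) (hn : Nondeg B) : dsc B ≠ 0 := by
  haveI : Module.Finite F M := Module.Finite.of_finite
  exact chi_ne (Disc.det_gram_ne_zero ⟨hn, fun y hy => hn y fun x => (hs y x).trans (hy x)⟩ _)

lemma dsc_congr {M' : Type u} [AddCommGroup M'] [Module F M'] [Finite M'] {B : M →ₗ[F] M →ₗ[F] F}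
    {B' : M' →ₗ[F] M' →ₗ[F] F} (e : M ≃ₗ[F] M') (h : ∀ a b, B' (e a) (e b) = B a b) : dsc B' = dsc B := by
  classical
  haveI : Module.Finite F M := Module.Finite.of_finite
  rw [dsc_eq B' ((Module.finBasis F M).map e), dsc_eq B (Module.finBasis F M)]
  congr 2
  ext i j
  simp [Disc.gram, h]

lemma dsc_orth {N' Y : Type u} [AddCommGroup N'] [Module F N'] [Finite N'] [AddCommGroup Y] [Module F Y] [Finite Y]
    {B : M →ₗ[F] M →ₗ[F] F} {B₁ : N' →ₗ[F] N' →ₗ[F] F} {B₂ : Y →ₗ[F] Y →ₗ[F] F} (Φ : (N' × Y) ≃ₗ[F] M)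
    (h : ∀ a b, B (Φ a) (Φ b) = B₁ a.1 b.1 + B₂ a.2 b.2) : dsc B = dsc B₁ * dsc B₂ := by
  classical
  haveI : Module.Finite F N' := Module.Finite.of_finite
  haveI : Module.Finite F Y := Module.Finite.of_finite
  let b₁ := Module.finBasis F N'
  let b₂ := Module.finBasis F Y
  have e : Disc.gram B ((b₁.prod b₂).map Φ) = Matrix.fromBlocks (Disc.gram B₁ b₁) 0 0 (Disc.gram B₂ b₂) := by
    ext (i | i) (j | j) <;> simp [Disc.gram, h]
  rw [dsc_eq B ((b₁.prod b₂).map Φ), e, Matrix.det_fromBlocks_zero₁₂, chi_mul, ← dsc_eq B₁ b₁, ← dsc_eq B₂ b₂]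

lemma dsc_smul (c : F) (B : M →ₗ[F] M →ₗ[F] F) : dsc (c • B) = chi c ^ Module.finrank F M * dsc B := by
  classical
  haveI : Module.Finite F M := Module.Finite.of_finite
  have e : Disc.gram (c • B) (Module.finBasis F M) = c • Disc.gram B (Module.finBasis F M) := by
    ext i j; simp [Disc.gram]
  rw [dsc_eq _ (Module.finBasis F M), e, Matrix.det_smul, chi_mul, chi_pow, Fintype.card_fin, ← dsc_eq]

end

lemma finrank_blk {f : F[X]} (hf : f.Monic) (m : ℕ) : Module.finrank F (blk (f, m)) = m * f.natDegree := by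
  haveI : Module.Finite F (blk (f, m)) := (hf.pow m).finite_quotient
  have h1 : Nat.card (blk (f, m)) = Nat.card F ^ Module.finrank F (blk (f, m)) := Module.natCard_eq_pow_finrank
  haveI := Fintype.ofFinite F
  have h2 : Nat.card (blk (f, m)) = Nat.card F ^ (m * f.natDegree) := by
    rw [← natDegree_pow, Nat.card_eq_fintype_card (α := F)]
    exact natCard_quot (hf.pow m)
  exact Nat.pow_right_injective (Finite.one_lt_card : 1 < Nat.card F) (h1.symm.trans h2)

end OrthClassCount2558
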