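import Mathlib
import Cfsg.Agent.GLClassCount.Main
import Cfsg.Agent.SUClassCount.Group
import Cfsg.Agent.OrthClassCount.Classify
import Cfsg.Agent.OrthClassCount.Arith

/-!
The classes of orthogonal groups of even dimension, `q` odd.
-/

set_option autoImplicit false
set_option linter.unusedSectionVars false

universe u

namespace OrthClassCount2558

open Polynomial Module GLClassCount2478 SUClassCount2481
open SpClassCount2482 (SR SR_one srSet mem_srSet card_srOne_le sum_wk_le wk we)
open Cfsg.Agent.Forms (Disc.gram)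

variable {F : Type u} [Field F] [Fintype F] {N : ℕ} {G : Type*} [Group G]

/-! ### From the group to the forms -/

/-- a group realised as the isometries of a symmetric matrix -/
structure Setup (F : Type u) [Field F] (N : ℕ) (G : Type*) [Group G] where
  ρ : G →* GL (Fin N) F
  J : Matrix (Fin N) (Fin N) F
  inj : Function.Injective ρ
  symm : J.transpose = J
  ndeg : J.det ≠ 0
  mem : ∀ y, (ρ y : Matrix (Fin N) (Fin N) F).transpose * J * ρ y = J
  surj : ∀ g : GL (Fin N) F, (g : Matrix (Fin N) (Fin N) F).transpose * J * g = J → ∃ y, ρ y = g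

/-- the coordinates of the module of a matrix -/
noncomputable def evs (g : GL (Fin N) F) : modOf g →ₗ[F] (Fin N → F) :=
  (Module.AEval'.of (Matrix.toLin' (g : Matrix (Fin N) (Fin N) F))).symm.toLinearMap

/-- the form on the module -/
noncomputable def formOf (J : Matrix (Fin N) (Fin N) F) (g : GL (Fin N) F) : modOf g →ₗ[F] modOf g →ₗ[F] F :=
  (Matrix.toLinearMap₂' F J).compl₁₂ (evs g) (evs g)

lemma formOf_of (J : Matrix (Fin N) (Fin N) F) (g : GL (Fin N) F) (x y : Fin N → F) :
    formOf J g (Module.AEval'.of (Matrix.toLin' (g : Matrix (Fin N) (Fin N) F)) x)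
      (Module.AEval'.of (Matrix.toLin' (g : Matrix (Fin N) (Fin N) F)) y) = x ⬝ᵥ J.mulVec y := by
  simp only [formOf, LinearMap.compl₁₂_apply, evs, LinearEquiv.coe_coe, LinearEquiv.symm_apply_apply,
    Matrix.toLinearMap₂'_apply']

lemma formOf_isInv (S : Setup F N G) (y : G) : IsInv (formOf S.J (S.ρ y)) := by
  have hsurj := (Module.AEval'.of (Matrix.toLin' (S.ρ y : Matrix (Fin N) (Fin N) F))).surjective
  refine ⟨fun a b => ?_, fun a b => ?_⟩
  · obtain ⟨x, rfl⟩ := hsurj a
    obtain ⟨z, rfl⟩ := hsurj b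
    rw [formOf_of, formOf_of, Matrix.dotProduct_mulVec, ← Matrix.mulVec_transpose, S.symm, dotProduct_comm]
  · obtain ⟨x, rfl⟩ := hsurj a
    obtain ⟨z, rfl⟩ := hsurj b
    rw [Module.AEval'.X_smul_of, Module.AEval'.X_smul_of, Matrix.toLin'_apply, Matrix.toLin'_apply, formOf_of,
      formOf_of]
    conv_rhs => rw [← S.mem y, ← Matrix.mulVec_mulVec, ← Matrix.mulVec_mulVec, Matrix.dotProduct_mulVec x,
      Matrix.vecMul_transpose]

lemma formOf_nondeg (S : Setup F N G) (g : GL (Fin N) F) : Nondeg (formOf S.J g) := by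
  intro a ha
  obtain ⟨x, rfl⟩ := (Module.AEval'.of (Matrix.toLin' (g : Matrix (Fin N) (Fin N) F))).surjective a
  rw [LinearEquiv.map_eq_zero_iff]
  refine Matrix.eq_zero_of_vecMul_eq_zero S.ndeg (dotProduct_eq_zero _ fun y => ?_)
  rw [← Matrix.dotProduct_mulVec]
  have := ha (Module.AEval'.of (Matrix.toLin' (g : Matrix (Fin N) (Fin N) F)) y)
  rw [formOf_of] at this
  exact this

/-- the object of an element -/
noncomputable def objOf (S : Setup F N G) (y : G) : SObj F :=
  haveI : Finite (modOf (S.ρ y)) :=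
    Finite.of_equiv _ (Module.AEval'.of (Matrix.toLin' (S.ρ y : Matrix (Fin N) (Fin N) F))).toEquiv
  ⟨modOf (S.ρ y), formOf S.J (S.ρ y), formOf_isInv S y, formOf_nondeg S _⟩

lemma dsc_objOf (S : Setup F N G) (y : G) : dsc (objOf S y).B = chi S.J.det := by
  classical
  let a : (Fin N → F) ≃ₗ[F] (objOf S y).M := Module.AEval'.of (Matrix.toLin' (S.ρ y : Matrix (Fin N) (Fin N) F))
  rw [dsc_eq (objOf S y).B ((Pi.basisFun F (Fin N)).map a)]
  congr 2
  ext i j
  show formOf S.J (S.ρ y) (a (Pi.basisFun F (Fin N) i)) (a (Pi.basisFun F (Fin N) j)) = S.J i j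
  refine (formOf_of S.J (S.ρ y) _ _).trans ?_
  simp [Pi.basisFun_apply]

lemma isConj_of_isom (S : Setup F N G) {y z : G} (h : Isom (objOf S y) (objOf S z)) : IsConj y z := by
  obtain ⟨e₀, he₀⟩ := h
  let e : modOf (S.ρ y) ≃ₗ[F[X]] modOf (S.ρ z) := e₀
  have he : ∀ a b, formOf S.J (S.ρ z) (e a) (e b) = formOf S.J (S.ρ y) a b := he₀
  let a := Module.AEval'.of (Matrix.toLin' (S.ρ y : Matrix (Fin N) (Fin N) F))
  let b := Module.AEval'.of (Matrix.toLin' (S.ρ z : Matrix (Fin N) (Fin N) F))
  let φ : (Fin N → F) →ₗ[F] (Fin N → F) :=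
    b.symm.toLinearMap.comp ((e.toLinearMap.restrictScalars F).comp a.toLinearMap)
  set c := LinearMap.toMatrix' φ with hc
  have hcv : ∀ v, b (c.mulVec v) = e (a v) := fun v => by
    rw [hc, LinearMap.toMatrix'_mulVec]
    show b (b.symm (e (a v))) = _
    rw [LinearEquiv.apply_symm_apply]
  have hcomm : c * (S.ρ y : Matrix (Fin N) (Fin N) F) = (S.ρ z : Matrix (Fin N) (Fin N) F) * c := by
    refine Matrix.toLin'.injective (LinearMap.ext fun v => b.injective ?_)
    rw [Matrix.toLin'_apply, Matrix.toLin'_apply, ← Matrix.mulVec_mulVec, ← Matrix.mulVec_mulVec, hcv,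
      ← Matrix.toLin'_apply, ← Matrix.toLin'_apply]
    show e (a _) = b _
    rw [← Module.AEval'.X_smul_of, ← Module.AEval'.X_smul_of]
    show e ((Polynomial.X : F[X]) • a v) = (Polynomial.X : F[X]) • b (c.mulVec v)
    rw [map_smul, hcv]
  have hform : c.transpose * S.J * c = S.J := by
    refine Matrix.toBilin'.injective (LinearMap.ext fun x => LinearMap.ext fun w => ?_)
    rw [Matrix.toBilin'_apply', Matrix.toBilin'_apply', ← Matrix.mulVec_mulVec, ← Matrix.mulVec_mulVec,
      Matrix.dotProduct_mulVec x, Matrix.vecMul_transpose]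
    have h1 := he (a x) (a w)
    rw [← hcv, ← hcv] at h1
    rw [← formOf_of S.J (S.ρ z), ← formOf_of S.J (S.ρ y)]
    exact h1
  have hdet : c.det ≠ 0 := fun h0 => S.ndeg (by
    have h2 := congrArg Matrix.det hform
    rw [Matrix.det_mul, Matrix.det_mul, h0, mul_zero] at h2
    exact h2.symm)
  obtain ⟨w, hw⟩ := S.surj (Matrix.GeneralLinearGroup.mkOfDetNeZero c hdet) hform
  refine isConj_iff.2 ⟨w, mul_inv_eq_iff_eq_mul.2 (S.inj (Units.ext ?_))⟩
  rw [map_mul, map_mul, hw, Units.val_mul, Units.val_mul]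
  exact hcomm

/-! ### Tuples -/

/-- the weight of an entry -/
noncomputable def wO (k : ℕ) (f : F[X]) : ℕ := if k % 2 = 1 then wk f else 1

/-- entries of even degree with constant term 1 -/
noncomputable def partE (F : Type u) [Field F] [Fintype F] (_k m : ℕ) : Finset F[X] := by
  classical
  exact if m % 2 = 0 then (srSet F m).filter fun f => f.coeff 0 = 1 else ∅

/-- admissible entries for a part -/
noncomputable def partT (F : Type u) [Field F] [Fintype F] (k m : ℕ) : Finset F[X] :=
  if k % 2 = 0 then partE F k m else srSet F m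

lemma card_partE_le (h2 : (2 : F) ≠ 0) (k m : ℕ) : (partE F k m).card ≤ valE (Fintype.card F) k m := by
  classical
  rw [partE, valE]
  split_ifs with h
  · obtain ⟨l, rfl⟩ : ∃ l, m = 2 * l := ⟨m / 2, by omega⟩
    rw [Nat.mul_div_cancel_left l two_pos]
    exact card_srOne_le h2 l
  · simp

lemma sum_partT_le (h2 : (2 : F) ≠ 0) (k m : ℕ) : ∑ f ∈ partT F k m, wO k f ≤ valT (Fintype.card F) k m := by
  rw [partT, valT]
  split_ifs with h h'
  · simp only [wO, if_neg (show ¬ k % 2 = 1 by omega), ← Finset.card_eq_sum_ones]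
    exact (card_partE_le h2 k m).trans (le_of_eq (if_pos h'))
  · simp only [wO, if_neg (show ¬ k % 2 = 1 by omega), ← Finset.card_eq_sum_ones]
    exact (card_partE_le h2 k m).trans (le_of_eq (if_neg h'))
  · simp only [wO, if_pos (show k % 2 = 1 by omega)]
    exact sum_wk_le h2 m

lemma mem_partE {k : ℕ} {f : F[X]} (h : SR f) (he : Even f.natDegree) (hc : f.coeff 0 = 1) :
    f ∈ partE F k f.natDegree := by
  classical
  rw [partE, if_pos (Nat.even_iff.1 he), Finset.mem_filter]
  exact ⟨mem_srSet.2 ⟨h, rfl⟩, hc⟩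

variable (P : ℕ → ℕ → Finset F[X])

/-- tuples with trivial first entry -/
noncomputable def rest : (j : ℕ) → ℕ → Finset (Fin (j + 1) → F[X])
  | 0, i => by
    classical
    exact if i = 0 then {fun _ => 1} else ∅
  | j + 1, i => by
    classical
    exact (Finset.range (i / (j + 2) + 1)).biUnion fun m =>
      ((P (j + 2) m) ×ˢ (rest j (i - (j + 2) * m))).image fun x => Fin.snoc x.2 x.1

/-- weight of a tuple -/
noncomputable def tw (w : ℕ → F[X] → ℕ) {j : ℕ} (v : Fin j → F[X]) : ℕ := ∏ k : Fin j, w ((k : ℕ) + 1) (v k)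

lemma sum_biUnion_le {α β : Type*} [DecidableEq β] (s : Finset α) (t : α → Finset β) (f : β → ℕ) :
    ∑ x ∈ s.biUnion t, f x ≤ ∑ a ∈ s, ∑ x ∈ t a, f x := by
  classical
  induction s using Finset.induction_on with
  | empty => simp
  | insert a s ha ih =>
    rw [Finset.biUnion_insert, Finset.sum_insert ha]
    exact ((Nat.le_add_right _ _).trans (Finset.sum_union_inter (s₁ := t a)).le).trans (Nat.add_le_add_left ih _)

lemma sum_image_le' {α β : Type*} [DecidableEq β] (s : Finset α) (g : α → β) (f : β → ℕ) :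
    ∑ x ∈ s.image g, f x ≤ ∑ a ∈ s, f (g a) := Finset.sum_image_le_of_nonneg fun x _ => Nat.zero_le _

variable {P} in
lemma sum_rest_le {w : ℕ → F[X] → ℕ} {val : ℕ → ℕ → ℕ} (hw : ∀ k, w k 1 = 1)
    (hP : ∀ k m, ∑ f ∈ P k m, w k f ≤ val k m) : ∀ j i, ∑ v ∈ rest P j i, tw w v ≤ rgen val j i
  | 0, i => by
    simp only [rest, rgen]
    split_ifs
    · simp [tw, hw]
    · simp
  | j + 1, i => by
    classical
    rw [rest, rgen]
    refine (sum_biUnion_le _ _ _).trans (Finset.sum_le_sum fun m _ => ?_)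
    refine (sum_image_le' _ _ _).trans ?_
    rw [Finset.sum_product]
    refine le_trans (le_of_eq ?_) (Nat.mul_le_mul (hP (j + 2) m) (sum_rest_le hw hP j _))
    rw [Finset.sum_mul_sum]
    refine Finset.sum_congr rfl fun p _ => Finset.sum_congr rfl fun v _ => ?_
    simp only [tw, Fin.prod_univ_castSucc, Fin.snoc_castSucc, Fin.snoc_last, Fin.val_last, Fin.val_castSucc]
    exact mul_comm _ _

lemma mem_rest : ∀ (j : ℕ) (v : Fin (j + 1) → F[X]), (∀ k : Fin (j + 1), v k ∈ P ((k : ℕ) + 1) (v k).natDegree) →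
    v 0 = 1 → v ∈ rest P j (∑ k : Fin (j + 1), ((k : ℕ) + 1) * (v k).natDegree)
  | 0, v, _, h1 => by
    classical
    rw [rest, if_pos (by simp [h1]), Finset.mem_singleton]
    funext i
    rw [show i = 0 from Fin.ext (by have := i.2; omega), h1]
  | j + 1, v, hv, h1 => by
    classical
    rw [rest]
    have hm := mem_rest j (Fin.init v) (fun k => hv k.castSucc) h1
    have hl := hv (Fin.last (j + 1))
    simp only [Fin.val_last] at hl
    simp only [Finset.mem_biUnion, Finset.mem_range, Finset.mem_image, Finset.mem_product]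
    refine ⟨(v (Fin.last (j + 1))).natDegree, ?_, (v (Fin.last (j + 1)), Fin.init v), ⟨hl, ?_⟩, Fin.snoc_init_self v⟩
    · rw [Nat.lt_succ_iff, Nat.le_div_iff_mul_le (by omega), mul_comm _ (j + 2), Fin.sum_univ_castSucc, Fin.val_last]
      exact Nat.le_add_left _ _
    · rw [Fin.sum_univ_castSucc, Fin.val_last, Nat.add_sub_cancel]
      exact hm

/-- all tuples -/
noncomputable def allT (N j : ℕ) : Finset (Fin (j + 1) → F[X]) := by
  classical
  exact (Finset.range (N + 1)).biUnion fun i => (rest P j i).biUnion fun r =>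
    (P 1 (N - i)).image fun p => Function.update r 0 p

variable {P} in
lemma sum_allT_le {w : ℕ → F[X] → ℕ} {val : ℕ → ℕ → ℕ} (hw : ∀ k, w k 1 = 1)
    (hP : ∀ k m, ∑ f ∈ P k m, w k f ≤ val k m) (hrest : ∀ j i, ∀ r ∈ rest P j i, r 0 = 1) (N j : ℕ) :
    ∑ v ∈ allT P N j, tw w v ≤ ∑ i ∈ Finset.range (N + 1), val 1 (N - i) * rgen val j i := by
  classical
  refine (sum_biUnion_le _ _ _).trans (Finset.sum_le_sum fun i _ => ?_)
  refine (sum_biUnion_le _ _ _).trans ?_
  refine le_trans (Finset.sum_le_sum fun r hr => ?_)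
    (show ∑ r ∈ rest P j i, val 1 (N - i) * tw w r ≤ _ by
      rw [← Finset.mul_sum]; exact Nat.mul_le_mul_left _ (sum_rest_le hw hP j i))
  refine (sum_image_le' _ _ _).trans ?_
  have h : ∀ p ∈ P 1 (N - i), tw w (Function.update r 0 p) = w 1 p * tw w r := by
    intro p _
    simp only [tw, Fin.prod_univ_succ, Function.update_self, Function.update_of_ne (Fin.succ_ne_zero _),
      hrest j i r hr, Fin.val_zero, zero_add, hw, one_mul]
  rw [Finset.sum_congr rfl h, ← Finset.sum_mul]
  exact Nat.mul_le_mul_right _ (hP 1 _)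

lemma rest_zero : ∀ j i, ∀ r ∈ rest P j i, r 0 = 1
  | 0, i, r, hr => by
    simp only [rest] at hr
    split_ifs at hr
    · rw [Finset.mem_singleton.1 hr]
    · simp at hr
  | j + 1, i, r, hr => by
    classical
    simp only [rest, Finset.mem_biUnion, Finset.mem_image, Finset.mem_product] at hr
    obtain ⟨m, -, ⟨p, v⟩, ⟨-, hv⟩, rfl⟩ := hr
    show Fin.snoc (α := fun _ => F[X]) v p (Fin.castSucc 0) = 1
    rw [Fin.snoc_castSucc]
    exact rest_zero j _ v hv

lemma mem_allT {N j : ℕ} (v : Fin (j + 1) → F[X]) (hv : ∀ k : Fin (j + 1), v k ∈ P ((k : ℕ) + 1) (v k).natDegree)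
    (h1 : (1 : F[X]) ∈ P 1 0) (hsum : ∑ k : Fin (j + 1), ((k : ℕ) + 1) * (v k).natDegree = N) : v ∈ allT P N j := by
  classical
  have hr : ∀ k : Fin (j + 1), Function.update v 0 1 k ∈ P ((k : ℕ) + 1) (Function.update v 0 1 k).natDegree := fun k => by
    by_cases hk : k = 0
    · subst hk; rw [Function.update_self, natDegree_one]; exact h1
    · rw [Function.update_of_ne hk]; exact hv k
  have hm := mem_rest P j _ hr (Function.update_self _ _ _)
  set i := ∑ k : Fin (j + 1), ((k : ℕ) + 1) * (Function.update v 0 1 k).natDegree with hi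
  have hsplit : (v 0).natDegree + i = N := by
    rw [← hsum, hi, Fin.sum_univ_succ, Fin.sum_univ_succ]
    simp only [Function.update_self, Function.update_of_ne (Fin.succ_ne_zero _)]
    simp
  simp only [allT, Finset.mem_biUnion, Finset.mem_range, Finset.mem_image]
  refine ⟨i, by omega, _, hm, v 0, ?_, by simp⟩
  have := hv 0
  simp only [Fin.val_zero, zero_add] at this
  rwa [show N - i = (v 0).natDegree by omega]

/-! ### The bound -/

open scoped Classical in
theorem card_sel_le (h2 : (2 : F) ≠ 0) (j : ℕ) [Finite G] (S : Setup F (j + 1) G) (sel : ConjClasses G → Prop)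
    (Pr : (Fin (j + 1) → F[X]) → Prop)
    (hsel : ∀ y D, sel (ConjClasses.mk y) → (∀ x ∈ D, x.1.Monic ∧ Irreducible x.1 ∧ 1 ≤ x.2) →
      HasData (objOf S y).M D → Pr fun k => prodk D ((k : ℕ) + 1)) :
    2 * Nat.card {c // sel c} ≤
      ∑ v ∈ (allT (partT F) (j + 1) j).filter Pr, tw wO v +
        ∑ v ∈ (allT (partE F) (j + 1) j).filter Pr, tw (fun _ _ => 1) v := by
  classical
  haveI : Fintype (ConjClasses (GL (Fin (j + 1)) F)) := Fintype.ofFinite _
  let π : ConjClasses G → ConjClasses (GL (Fin (j + 1)) F) :=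
    ConjClasses.map S.ρ
  obtain ⟨v, hinj, hv⟩ := exists_tuples (F := F) (n := j + 1)
  let v' : ConjClasses (GL (Fin (j + 1)) F) → Fin (j + 1) → F[X] := fun C k => v C k
  let wt : (Fin (j + 1) → F[X]) → ℕ := fun u =>
    (if u ∈ (allT (partT F) (j + 1) j).filter Pr then tw wO u else 0) +
      (if u ∈ (allT (partE F) (j + 1) j).filter Pr then tw (fun _ _ => 1) u else 0)
  have hfib : ∀ C, 2 * Nat.card {x : {c // sel c} // π x.1 = C} ≤ wt (v' C) := by
    intro C
    rcases isEmpty_or_nonempty {x : {c // sel c} // π x.1 = C} with h | ⟨⟨x₀, hx₀⟩⟩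
    · rw [Nat.card_of_isEmpty, Nat.mul_zero]; exact Nat.zero_le _
    obtain ⟨-, g, ι, hι, P, hgC, hP, hsum, ⟨E⟩, hvP⟩ := hv C
    set D : Multiset (F[X] × ℕ) := (Finset.univ : Finset ι).val.map P with hDdef
    have hblocks : ∀ x ∈ D, x.1.Monic ∧ Irreducible x.1 ∧ 1 ≤ x.2 := fun x hx => by
      obtain ⟨i, -, rfl⟩ := Multiset.mem_map.1 hx
      exact ⟨(hP i).1, (hP i).2.1, (hP i).2.2.1⟩
    have hpi : HasData (∀ i, blk (P i)) D := by
      refine ⟨?_, fun f hf hi k => ?_⟩
      · rw [Nat.card_pi, dim', hDdef, Multiset.map_map]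
        refine Eq.trans ?_ (Finset.prod_pow_eq_pow_sum _ _ _)
        refine Finset.prod_congr rfl fun i _ => ?_
        show Nat.card (blk (P i)) = _
        rw [natCard_quot ((hP i).1.pow _), natDegree_pow, Nat.card_eq_fintype_card]
        rfl
      · rw [kc_pi, sx, hDdef, Multiset.map_map]
        refine Eq.trans ?_ (Finset.prod_pow_eq_pow_sum _ _ _)
        refine Finset.prod_congr rfl fun i _ => ?_
        rw [kc_blk hf hi (hP i).1 (hP i).2.1 k, Nat.card_eq_fintype_card]
        rfl
    have hdata : ∀ y, π (ConjClasses.mk y) = C → HasData (objOf S y).M D := by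
      intro y hy
      obtain ⟨h, hh⟩ := isConj_iff.1 (ConjClasses.mk_eq_mk_iff_isConj.1
        (show ConjClasses.mk (S.ρ y) = ConjClasses.mk g from hy.trans hgC.symm))
      obtain ⟨E'⟩ := nonempty_iso_of_conj hh
      exact hpi.congr (E'.trans E).symm
    choose rep hrep using fun x : {x : {c // sel c} // π x.1 = C} => ConjClasses.mk_surjective x.1.1
    have hobj : ∀ x, HasData (objOf S (rep x)).M D := fun x => hdata _ (by rw [hrep]; exact x.2)
    obtain ⟨hgood, hpig, -⟩ := classify h2 _ D rfl hblocks (objOf S (rep ⟨x₀, hx₀⟩)) (hobj _)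
    have hprod : ∀ k : Fin (j + 1), prodk D ((k : ℕ) + 1) = v' C k := fun k => by
      rw [show v' C k = v C k from rfl, hvP k, prodk, hDdef, Multiset.filter_map, Multiset.map_map,
        Finset.prod_eq_multiset_prod, Finset.filter_val]
      rfl
    have hOK : ∀ k : Fin (j + 1), SR (v' C k) ∧
        (Even ((k : ℕ) + 1) → Even (v' C k).natDegree ∧ (v' C k).coeff 0 = 1) := fun k => hprod k ▸ hgood ((k : ℕ) + 1)
    have hweight : ∑ k : Fin (j + 1), ((k : ℕ) + 1) * (v' C k).natDegree = j + 1 := by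
      have hle : ∀ i, (P i).2 ≤ j + 1 := fun i => by
        calc (P i).2 ≤ (P i).2 * (P i).1.natDegree := Nat.le_mul_of_pos_right _ (hP i).2.1.natDegree_pos
          _ ≤ _ := hsum ▸ Finset.single_le_sum (f := fun i => (P i).2 * (P i).1.natDegree)
              (fun _ _ => Nat.zero_le _) (Finset.mem_univ i)
      let idx : ι → Fin (j + 1) := fun i => ⟨(P i).2 - 1, by have := hle i; have := (hP i).2.2.1; omega⟩
      refine Eq.trans ?_ hsum
      rw [← Finset.sum_fiberwise Finset.univ idx]
      refine Finset.sum_congr rfl fun k _ => ?_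
      rw [show v' C k = v C k from rfl, hvP k, natDegree_prod_of_monic _ _ fun i _ => (hP i).1, Finset.mul_sum]
      refine Finset.sum_congr (Finset.filter_congr fun i _ => ?_) fun i hi => ?_
      · have := (hP i).2.2.1
        constructor
        · intro h; exact Fin.ext (show (P i).2 - 1 = (k : ℕ) by omega)
        · rintro rfl; show (P i).2 = (P i).2 - 1 + 1; omega
      · have := (hP i).2.2.1
        have hk := (Finset.mem_filter.1 hi).2
        rw [show (P i).2 = (k : ℕ) + 1 by rw [← hk]; show (P i).2 = (P i).2 - 1 + 1; omega]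
    have hone : ∀ k, (1 : F[X]) ∈ partE F k 0 := fun k => by
      have h := mem_partE (F := F) (k := k) SR_one (by simp) coeff_one_zero
      rwa [natDegree_one] at h
    have hTmem : v' C ∈ allT (partT F) (j + 1) j := by
      refine mem_allT _ _ (fun k => ?_) ?_ hweight
      · rw [partT]
        split_ifs with hk
        · exact mem_partE (hOK k).1 ((hOK k).2 (Nat.even_iff.2 hk)).1 ((hOK k).2 (Nat.even_iff.2 hk)).2
        · exact mem_srSet.2 ⟨(hOK k).1, rfl⟩
      · rw [partT, if_neg (by omega)]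
        exact mem_srSet.2 ⟨SR_one, natDegree_one⟩
    have hPr : Pr (v' C) := by
      have h := hsel (rep ⟨x₀, hx₀⟩) D (by rw [hrep]; exact x₀.2) hblocks (hobj _)
      rwa [show (fun k : Fin (j + 1) => prodk D ((k : ℕ) + 1)) = v' C from funext hprod] at h
    have hEmem : tw wO (v' C) = 1 → v' C ∈ allT (partE F) (j + 1) j := by
      intro h1
      refine mem_allT _ _ (fun k => ?_) (hone 1) hweight
      obtain ⟨hsr, hev⟩ := hOK k
      rcases Nat.even_or_odd ((k : ℕ) + 1) with hk | hk
      · exact mem_partE hsr (hev hk).1 (hev hk).2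
      have hw1 := Finset.prod_eq_one_iff.1 h1 k (Finset.mem_univ k)
      rw [wO, if_pos (Nat.odd_iff.1 hk), wk] at hw1
      have hroot : (v' C k).eval 1 ≠ 0 ∧ (v' C k).eval (-1) ≠ 0 :=
        ⟨fun h => by rw [if_pos h] at hw1; omega, fun h => by rw [if_pos h] at hw1; omega⟩
      have hc : (v' C k).coeff 0 = 1 := by
        have := mul_right_cancel₀ hroot.1 (hsr.reverse_eval (mul_one 1))
        rwa [one_pow] at this
      refine mem_partE hsr ?_ hc
      rcases Nat.even_or_odd (v' C k).natDegree with he | ho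
      · exact he
      · have := mul_right_cancel₀ hroot.2 (hsr.reverse_eval (show (-1 : F) * -1 = 1 by ring))
        rw [hc, ho.neg_one_pow] at this
        exact absurd (show (2 : F) = 0 by linear_combination this) h2
    haveI : Fintype {x : {c // sel c} // π x.1 = C} := Fintype.ofFinite _
    have hW : Nat.card {x : {c // sel c} // π x.1 = C} ≤ H D := by
      by_contra hlt
      push Not at hlt
      rw [Nat.card_eq_fintype_card] at hlt
      let ε := Fintype.equivFin {x : {c // sel c} // π x.1 = C}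
      obtain ⟨i, j, hij, hiso⟩ := hpig (Fin (Fintype.card {x : {c // sel c} // π x.1 = C})) (fun i => objOf S (rep (ε.symm i)))
        (fun i => hobj _) (fun i j => (dsc_objOf S _).trans (dsc_objOf S _).symm) (by rwa [Fintype.card_fin])
      refine hij (ε.symm.injective (Subtype.ext (Subtype.ext ?_)))
      rw [← hrep, ← hrep, ConjClasses.mk_eq_mk_iff_isConj]
      exact isConj_of_isom S hiso
    suffices hA : 2 ^ (spA D).card ≤ tw wO (v' C) by
      refine (Nat.mul_le_mul_left 2 hW).trans ?_
      simp only [wt, if_pos (Finset.mem_filter.2 ⟨hTmem, hPr⟩)]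
      rcases Nat.eq_zero_or_pos (spA D).card with h | h
      · rw [H, h, Nat.zero_sub, pow_zero, mul_one]
        rw [h, pow_zero] at hA
        rcases Nat.lt_or_ge (tw wO (v' C)) 2 with h' | h'
        · rw [if_pos (Finset.mem_filter.2 ⟨hEmem (by omega), hPr⟩), show tw (fun _ _ => 1) (v' C) = 1 by simp [tw]]
          omega
        · omega
      · rw [H, ← pow_succ', show (spA D).card - 1 + 1 = (spA D).card by omega]
        omega
    -- compare with the weights of the tuple
    rw [tw, Finset.card_eq_sum_card_fiberwise (f := fun x : F[X] × ℕ => x.2) (t := (spA D).image Prod.snd)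
      (fun x hx => Finset.mem_image_of_mem _ hx), ← Finset.prod_pow_eq_pow_sum]
    have hk : ∀ m ∈ (spA D).image Prod.snd, 1 ≤ m ∧ m ≤ j + 1 := by
      intro m hm
      obtain ⟨x, hx, rfl⟩ := Finset.mem_image.1 hm
      simp only [spA, Finset.mem_filter, Multiset.mem_toFinset] at hx
      obtain ⟨i, -, rfl⟩ := Multiset.mem_map.1 hx.1
      refine ⟨(hP i).2.2.1, ?_⟩
      calc (P i).2 ≤ (P i).2 * (P i).1.natDegree := Nat.le_mul_of_pos_right _ (hP i).2.1.natDegree_pos
        _ ≤ ∑ i, (P i).2 * (P i).1.natDegree := Finset.single_le_sum (f := fun i => (P i).2 * (P i).1.natDegree)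
              (fun _ _ => Nat.zero_le _) (Finset.mem_univ i)
        _ = _ := hsum
    have hfac : ∀ m ∈ (spA D).image Prod.snd, 2 ^ ((spA D).filter fun x => x.2 = m).card ≤ wO m (prodk D m) := by
      intro m hm
      have hsub : ∀ x ∈ (spA D).filter (fun x => x.2 = m),
          x.2 = m ∧ Odd m ∧ ((x.1 = X - Polynomial.C 1 ∧ (prodk D m).eval 1 = 0) ∨ (x.1 = X - Polynomial.C (-1) ∧ (prodk D m).eval (-1) = 0)) := by
        intro x hx
        simp only [spA, Finset.mem_filter, Multiset.mem_toFinset] at hx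
        obtain ⟨⟨hxD, hx1, hx2⟩, rfl⟩ := hx
        have hdvd : x.1 ∣ prodk D x.2 :=
          Multiset.dvd_prod (Multiset.mem_map_of_mem _ (Multiset.mem_filter.2 ⟨hxD, rfl⟩))
        refine ⟨rfl, hx2, hx1.imp (fun h => ⟨h, ?_⟩) (fun h => ⟨h, ?_⟩)⟩ <;>
          exact eval_eq_zero_of_dvd_of_eval_eq_zero hdvd (by rw [h]; simp)
      obtain ⟨x, hx, rfl⟩ := Finset.mem_image.1 hm
      obtain ⟨-, hev, -⟩ := hsub x (Finset.mem_filter.2 ⟨hx, rfl⟩)
      rw [wO, if_pos (Nat.odd_iff.1 hev), wk]
      have hS : ((spA D).filter fun y => y.2 = x.2) ⊆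
          (if (prodk D x.2).eval 1 = 0 then {(X - Polynomial.C (1 : F), x.2)} else ∅) ∪
          (if (prodk D x.2).eval (-1) = 0 then {(X - Polynomial.C (-1 : F), x.2)} else ∅) := by
        intro y hy
        obtain ⟨h1, -, h3⟩ := hsub y hy
        rw [Finset.mem_union]
        rcases h3 with ⟨h, h'⟩ | ⟨h, h'⟩
        · refine Or.inl ?_
          rw [if_pos h', Finset.mem_singleton]
          exact Prod.ext h h1
        · refine Or.inr ?_
          rw [if_pos h', Finset.mem_singleton]
          exact Prod.ext h h1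
      refine (Nat.pow_le_pow_right two_pos ((Finset.card_le_card hS).trans (Finset.card_union_le _ _))).trans ?_
      rw [pow_add]
      refine Nat.mul_le_mul ?_ ?_ <;> split_ifs <;> simp
    let ix : ℕ → Fin (j + 1) := fun m => ⟨min (m - 1) j, by omega⟩
    have hix : ∀ m ∈ (spA D).image Prod.snd, ((ix m : ℕ) + 1) = m := fun m hm => by
      have := hk m hm
      show min (m - 1) j + 1 = m
      omega
    calc ∏ m ∈ (spA D).image Prod.snd, 2 ^ ((spA D).filter fun x => x.2 = m).card
        ≤ ∏ m ∈ (spA D).image Prod.snd, wO m (prodk D m) := Finset.prod_le_prod' hfac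
      _ = ∏ k ∈ ((spA D).image Prod.snd).image ix, wO (((k : Fin (j + 1)) : ℕ) + 1) (v' C k) := by
          rw [Finset.prod_image (g := ix) fun a ha b hb h => by
            have := congrArg (fun k : Fin (j + 1) => (k : ℕ) + 1) h
            simp only [hix a ha, hix b hb] at this
            exact this]
          refine Finset.prod_congr rfl fun m hm => ?_
          rw [← hprod, hix m hm]
      _ ≤ ∏ k : Fin (j + 1), wO ((k : ℕ) + 1) (v' C k) := Finset.prod_le_prod_of_subset_of_one_le' (Finset.subset_univ _)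
          fun k _ _ => by
            rw [wO, wk]
            split_ifs <;> simp
  have hsplit : Nat.card {c // sel c} = ∑ C, Nat.card {x : {c // sel c} // π x.1 = C} := by
    rw [← Nat.card_sigma]; exact (Nat.card_congr (Equiv.sigmaFiberEquiv fun x : {c // sel c} => π x.1)).symm
  rw [hsplit, Finset.mul_sum]
  calc ∑ C, 2 * Nat.card {x : {c // sel c} // π x.1 = C} ≤ ∑ C, wt (v' C) := Finset.sum_le_sum fun C _ => hfib C
    _ ≤ ∑ u ∈ Finset.univ.image v', wt u := le_of_eq (Finset.sum_image (g := v') (f := wt)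
        fun C _ C' _ h => hinj (funext fun k => congrFun h k)).symm
    _ ≤ _ := by
      simp only [wt, Finset.sum_add_distrib, ← Finset.sum_filter]
      exact Nat.add_le_add (Finset.sum_le_sum_of_subset fun u hu => (Finset.mem_filter.1 hu).2)
        (Finset.sum_le_sum_of_subset fun u hu => (Finset.mem_filter.1 hu).2)

theorem card_classes_le (h2 : (2 : F) ≠ 0) (j : ℕ) [Finite G] (S : Setup F (j + 1) G) :
    2 * Nat.card (ConjClasses G) ≤
      ∑ v ∈ allT (partT F) (j + 1) j, tw wO v + ∑ v ∈ allT (partE F) (j + 1) j, tw (fun _ _ => 1) v := by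
  classical
  have h := card_sel_le h2 j S (fun _ => True) (fun _ => True) fun _ _ _ _ _ => trivial
  rw [Nat.card_congr (Equiv.subtypeUnivEquiv fun _ => trivial)] at h
  simpa only [Finset.filter_true] using h

theorem card_classes_bound (hodd : Odd (Fintype.card F)) (e : ℕ) [Finite G] (S : Setup F (e + 1 + (e + 1)) G) :
    2 * Nat.card (ConjClasses G) ≤ 19 * Fintype.card F ^ (e + 1) := by
  have h2 : (2 : F) ≠ 0 := by
    intro h
    have := (FiniteField.even_card_iff_char_two (F := F)).1 ?_
    · exact (Nat.not_even_iff_odd.2 hodd) (Nat.even_iff.2 this)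
    · exact (CharP.ringChar_of_prime_eq_zero Nat.prime_two (by exact_mod_cast h))
  have hq : 3 ≤ Fintype.card F := by
    obtain ⟨k, hk⟩ := hodd
    have := Fintype.one_lt_card (α := F)
    omega
  refine (card_classes_le h2 (e + 1 + e) S).trans ((Nat.add_le_add
    (sum_allT_le (fun k => by simp [wO, wk]) (sum_partT_le h2) (rest_zero _) _ _)
    (sum_allT_le (w := fun _ _ => 1) (val := valE (Fintype.card F)) (fun _ => rfl)
      (fun k m => by rw [← Finset.card_eq_sum_ones]; exact card_partE_le h2 k m) (rest_zero _) _ _)).trans ?_)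
  rw [show e + 1 + e + 1 = 2 * (e + 1) by omega]
  exact total_le hq _ _

end OrthClassCount2558
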