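import Mathlib
import Cfsg.Agent.S2385
import Cfsg.Agent.OrthClassCount.Count

/-!
Many classes: `g + g⁻¹` may have any characteristic polynomial of a suitable discriminant.
-/

set_option autoImplicit false
set_option linter.unusedSectionVars false

universe u

namespace OrthClassCount2558

open Polynomial Matrix
open Cfsg.Agent.Forms (Disc.gram Disc.exists_isometry)

variable {F : Type u} [Field F] [Fintype F]

/-- an isometry `g` of a form of class `δ` with `charpoly (g + g⁻¹) = h ^ 2` -/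
def Realised (h : F[X]) (δ : ℤ) : Prop :=
  ∃ (ι : Type) (_ : Fintype ι) (_ : DecidableEq ι) (Γ M M' : Matrix ι ι F),
    Fintype.card ι = 2 * h.natDegree ∧ Γ.transpose = Γ ∧ Γ.det ≠ 0 ∧ chi Γ.det = δ ∧
    M.transpose * Γ * M = Γ ∧ M * M' = 1 ∧ (M + M').charpoly = h * h

lemma two_pm (h2 : (2 : F) ≠ 0) (n : ℕ) (D : Matrix (Fin n) (Fin n) F) :
    (Matrix.fromBlocks ((2 : F) • 1) D D ((2 : F) • 1)).det =
      (-1) ^ n * (D.charpoly.eval 2 * D.charpoly.eval (-2)) := by
  have h : Matrix.fromBlocks 1 0 (-1 : Matrix (Fin n) (Fin n) F) 1 * Matrix.fromBlocks ((2 : F) • 1) D D ((2 : F) • 1) *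
      Matrix.fromBlocks 1 0 1 1 = Matrix.fromBlocks ((2 : F) • 1 + D) D 0 ((2 : F) • 1 - D) := by
    rw [Matrix.fromBlocks_multiply, Matrix.fromBlocks_multiply]
    congr 1 <;> simp <;> abel
  have hd := congrArg Matrix.det h
  rw [Matrix.det_mul, Matrix.det_mul, Matrix.det_fromBlocks_zero₁₂, Matrix.det_fromBlocks_zero₁₂,
    Matrix.det_fromBlocks_zero₂₁, Matrix.det_one, one_mul, one_mul, mul_one] at hd
  rw [hd, Matrix.eval_charpoly, Matrix.eval_charpoly]
  have e1 : Matrix.scalar (Fin n) (2 : F) = (2 : F) • (1 : Matrix (Fin n) (Fin n) F) := by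
    rw [Matrix.scalar_apply, ← Matrix.smul_one_eq_diagonal]
  have e2 : Matrix.scalar (Fin n) (-2 : F) - D = -((2 : F) • (1 : Matrix (Fin n) (Fin n) F) + D) := by
    rw [Matrix.scalar_apply, ← Matrix.smul_one_eq_diagonal, neg_smul, neg_add, sub_eq_add_neg]
  rw [e1, e2, Matrix.det_neg, Fintype.card_fin]
  have : ((-1 : F) ^ n) * (-1) ^ n = 1 := by rw [← mul_pow, neg_one_mul, neg_neg, one_pow]
  linear_combination -(((2 : F) • (1 : Matrix (Fin n) (Fin n) F) + D).det * ((2 : F) • (1 : Matrix (Fin n) (Fin n) F) - D).det) * this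

lemma realised_base (h2 : (2 : F) ≠ 0) {h : F[X]} (hh : h.Monic) (h0 : h.eval 2 * h.eval (-2) ≠ 0) :
    Realised h (chi ((-1) ^ h.natDegree * (h.eval 2 * h.eval (-2)))) := by
  obtain ⟨S, T, D, hST, hS, -, hDS, hD⟩ := Cfsg.Agent.S2385.exists_symm h.natDegree h hh rfl
  have hSdet : S.det ≠ 0 := fun h' => by
    have := congrArg Matrix.det hST
    rw [Matrix.det_mul, h', zero_mul, Matrix.det_one] at this
    exact zero_ne_one this
  have hSD : (S * D).transpose = S * D := by rw [Matrix.transpose_mul, hS, hDS]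
  refine ⟨Fin h.natDegree ⊕ Fin h.natDegree, inferInstance, inferInstance,
    Matrix.fromBlocks ((2 : F) • S) (S * D) (S * D) ((2 : F) • S), Matrix.fromBlocks 0 (-1) 1 D,
    Matrix.fromBlocks D 1 (-1) 0, by simp; ring, ?_, ?_, ?_, ?_, ?_, ?_⟩
  · rw [Matrix.fromBlocks_transpose, Matrix.transpose_smul, hS, hSD]
  all_goals
    have hdet : (Matrix.fromBlocks ((2 : F) • S) (S * D) (S * D) ((2 : F) • S)).det =
        S.det * S.det * ((-1) ^ h.natDegree * (h.eval 2 * h.eval (-2))) := by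
      have e := two_pm h2 h.natDegree D
      rw [hD] at e
      rw [← e, ← Matrix.det_fromBlocks_zero₁₂ S 0 S, ← Matrix.det_mul, Matrix.fromBlocks_multiply]
      simp
  · rw [hdet]
    exact mul_ne_zero (mul_ne_zero hSdet hSdet) (mul_ne_zero (pow_ne_zero _ (neg_ne_zero.2 one_ne_zero)) h0)
  · rw [hdet, chi_mul, chi_sq hSdet, one_mul]
  · rw [Matrix.fromBlocks_transpose, Matrix.fromBlocks_multiply, Matrix.fromBlocks_multiply]
    simp only [Matrix.transpose_zero, Matrix.transpose_one, Matrix.transpose_neg, Matrix.zero_mul, Matrix.one_mul,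
      Matrix.neg_mul, Matrix.mul_zero, Matrix.mul_one, Matrix.mul_neg, zero_add, add_zero]
    have e : D.transpose * (S * D) = S * D * D := by rw [← Matrix.mul_assoc, hDS]
    have e' : D.transpose * ((2 : F) • S) = (2 : F) • (S * D) := by rw [Matrix.mul_smul, hDS]
    simp only [Matrix.add_mul, Matrix.neg_mul, e, e', Matrix.smul_mul]
    congr 1 <;> simp [two_smul] <;> abel
  · rw [Matrix.fromBlocks_multiply, ← Matrix.fromBlocks_one]
    congr 1 <;> simp
  · rw [Matrix.fromBlocks_add]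
    simp only [zero_add, add_zero, neg_add_cancel, add_neg_cancel]
    rw [Matrix.charpoly_fromBlocks_zero₁₂, hD]

lemma realised_root {h' : F[X]} (hh' : h'.Monic) {δ' : ℤ} (hr : Realised h' δ') {ε d : F} (hε : ε * ε = 1)
    (hd : d ≠ 0) : Realised ((X - C (2 * ε)) * h') (δ' * chi d) := by
  obtain ⟨ι, _, _, Γ, M, M', hcard, hsym, hdet, hchi, hiso, hinv, hchar⟩ := hr
  refine ⟨ι ⊕ Fin 2, inferInstance, inferInstance, Matrix.fromBlocks Γ 0 0 (Matrix.diagonal ![1, d]),
    Matrix.fromBlocks M 0 0 (ε • 1), Matrix.fromBlocks M' 0 0 (ε • 1), ?_, ?_, ?_, ?_, ?_, ?_, ?_⟩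
  · rw [(monic_X_sub_C _).natDegree_mul hh', natDegree_X_sub_C, Fintype.card_sum, hcard, Fintype.card_fin]
    ring
  · rw [Matrix.fromBlocks_transpose, hsym, Matrix.diagonal_transpose, Matrix.transpose_zero, Matrix.transpose_zero]
  · rw [Matrix.det_fromBlocks_zero₁₂, Matrix.det_diagonal]
    simp [Fin.prod_univ_two, hdet, hd]
  · rw [Matrix.det_fromBlocks_zero₁₂, Matrix.det_diagonal, chi_mul, hchi]
    simp [Fin.prod_univ_two]
  · rw [Matrix.fromBlocks_transpose, Matrix.fromBlocks_multiply, Matrix.fromBlocks_multiply]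
    simp [hiso, smul_smul, hε]
  · rw [Matrix.fromBlocks_multiply, ← Matrix.fromBlocks_one]
    simp [hinv, smul_smul, hε]
  · rw [Matrix.fromBlocks_add, add_zero, add_zero, Matrix.charpoly_fromBlocks_zero₁₂, hchar,
      ← add_smul, Matrix.smul_one_eq_diagonal, Matrix.charpoly_diagonal, Fin.prod_univ_two, two_mul]
    ring

/-- the condition on the polynomial -/
def Fits (h : F[X]) (δ : ℤ) : Prop :=
  h.eval 2 * h.eval (-2) = 0 ∨ chi ((-1) ^ h.natDegree * (h.eval 2 * h.eval (-2))) = δ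

lemma realised (h2 : (2 : F) ≠ 0) : ∀ (n : ℕ) (h : F[X]), h.Monic → h.natDegree = n →
    ∀ δ : ℤ, (δ = 1 ∨ δ = -1) → Fits h δ → Realised h δ := by
  intro n
  induction n with
  | zero =>
    intro h hh hn δ _ hfit
    rw [eq_one_of_monic_natDegree_zero hh hn] at hfit ⊢
    rcases hfit with h' | h'
    · simp at h'
    · rw [← h']
      exact realised_base h2 monic_one (by simp)
  | succ n ih =>
    intro h hh hn δ hδ hfit
    by_cases h0 : h.eval 2 * h.eval (-2) = 0
    swap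
    · rw [← hfit.resolve_left h0]
      exact realised_base h2 hh h0
    obtain ⟨ε, hε, hroot⟩ : ∃ ε : F, ε * ε = 1 ∧ h.eval (2 * ε) = 0 := by
      rcases mul_eq_zero.1 h0 with h' | h'
      · exact ⟨1, mul_one 1, by rwa [mul_one]⟩
      · exact ⟨-1, by ring, by rwa [mul_neg_one]⟩
    obtain ⟨h', rfl⟩ := dvd_iff_isRoot.2 hroot
    have hh' : h'.Monic := (monic_X_sub_C _).of_mul_monic_left hh
    have hn' : h'.natDegree = n := by
      rw [(monic_X_sub_C _).natDegree_mul hh', natDegree_X_sub_C] at hn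
      omega
    by_cases h0' : h'.eval 2 * h'.eval (-2) = 0
    · have := realised_root hh' (ih h' hh' hn' δ hδ (Or.inl h0')) hε (one_ne_zero : (1 : F) ≠ 0)
      rwa [chi_one, mul_one] at this
    set δ' := chi ((-1) ^ h'.natDegree * (h'.eval 2 * h'.eval (-2))) with hδ'
    have hδc : δ' = 1 ∨ δ' = -1 := chi_cases (mul_ne_zero (pow_ne_zero _ (neg_ne_zero.2 one_ne_zero)) h0')
    obtain ⟨d, hd, hdd⟩ : ∃ d : F, d ≠ 0 ∧ δ' * chi d = δ := by
      obtain ⟨z, hz, hz'⟩ := exists_nonsquare h2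
      rcases hδc with e | e <;> rcases hδ with e' | e' <;> rw [e, e']
      · exact ⟨1, one_ne_zero, by rw [chi_one, mul_one]⟩
      · exact ⟨z, hz, by rw [hz', one_mul]⟩
      · exact ⟨z, hz, by rw [hz', neg_one_mul, neg_neg]⟩
      · exact ⟨1, one_ne_zero, by rw [chi_one, mul_one]⟩
    rw [← hdd]
    exact realised_root hh' (realised_base h2 hh' h0') hε hd

variable {G : Type*} [Group G]

lemma exists_element' (h2 : (2 : F) ≠ 0) {N : ℕ} (S : Setup F N G) {ι : Type} [Fintype ι] [DecidableEq ι]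
    (Γ M M' : Matrix ι ι F) (hcard : Fintype.card ι = N) (hsym : Γ.transpose = Γ) (hdet : Γ.det ≠ 0)
    (hchi : chi Γ.det = chi S.J.det) (hiso : M.transpose * Γ * M = Γ) (hinv : M * M' = 1) :
    ∃ y : G, ((S.ρ y : Matrix (Fin N) (Fin N) F) + ((S.ρ y)⁻¹ : GL (Fin N) F)).charpoly = (M + M').charpoly := by
  classical
  let e : ι ≃ Fin N := Fintype.equivFinOfCardEq hcard
  let r := Matrix.reindexAlgEquiv F F e
  have hrt : ∀ A, (r A).transpose = r A.transpose := fun A => by simp [r, Matrix.transpose_reindex]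
  have hΓdet : (r Γ).det = Γ.det := by simp [r]
  have hsymB : ∀ A : Matrix (Fin N) (Fin N) F, A.transpose = A →
      (Matrix.toBilin' A : LinearMap.BilinForm F (Fin N → F)).IsSymm := fun A hA => ⟨fun x y => by
    rw [Matrix.toBilin'_apply', Matrix.toBilin'_apply', Matrix.dotProduct_mulVec, ← Matrix.mulVec_transpose, hA,
      dotProduct_comm]⟩
  have hgram : ∀ A : Matrix (Fin N) (Fin N) F,
      Disc.gram (Matrix.toBilin' A) (Pi.basisFun F (Fin N)) = A := fun A => by
    ext i j; simp [Disc.gram, Matrix.toBilin'_single]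
  obtain ⟨E, hE⟩ := Disc.exists_isometry h2 (Matrix.toBilin' (r Γ)) (hsymB _ (by rw [hrt, hsym]))
    (LinearMap.BilinForm.nondegenerate_toBilin'_iff_det_ne_zero.2 (by rwa [hΓdet]))
    (Matrix.toBilin' S.J) (hsymB _ S.symm) (LinearMap.BilinForm.nondegenerate_toBilin'_iff_det_ne_zero.2 S.ndeg)
    rfl (Pi.basisFun F (Fin N)) (Pi.basisFun F (Fin N))
    (by rw [hgram, hgram, hΓdet]; exact isSquare_of_chi_eq hdet S.ndeg hchi)
  set c := LinearMap.toMatrix' E.toLinearMap with hc
  set c' := LinearMap.toMatrix' E.symm.toLinearMap with hc'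
  have hcc : c * c' = 1 := by rw [hc, hc', ← LinearMap.toMatrix'_comp, LinearEquiv.comp_symm, LinearMap.toMatrix'_id]
  have hcc' : c' * c = 1 := by rw [hc, hc', ← LinearMap.toMatrix'_comp, LinearEquiv.symm_comp, LinearMap.toMatrix'_id]
  have hform : c.transpose * S.J * c = r Γ := by
    refine Matrix.toBilin'.injective (LinearMap.ext fun x => LinearMap.ext fun w => ?_)
    rw [← hE x w, Matrix.toBilin'_apply', Matrix.toBilin'_apply', ← Matrix.mulVec_mulVec, ← Matrix.mulVec_mulVec,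
      Matrix.dotProduct_mulVec x, Matrix.vecMul_transpose, hc, LinearMap.toMatrix'_mulVec, LinearMap.toMatrix'_mulVec]
    rfl
  have hMM : r M * r M' = 1 := by rw [← map_mul, hinv, map_one]
  let g : GL (Fin N) F := ⟨c * r M * c', c * r M' * c',
    by rw [show c * r M * c' * (c * r M' * c') = c * r M * (c' * c) * r M' * c' by simp only [mul_assoc], hcc',
      mul_one, mul_assoc c, hMM, mul_one, hcc],
    by rw [show c * r M' * c' * (c * r M * c') = c * r M' * (c' * c) * r M * c' by simp only [mul_assoc], hcc',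
      mul_one, mul_assoc c, mul_eq_one_comm.1 hMM, mul_one, hcc]⟩
  have hg : (g : Matrix (Fin N) (Fin N) F).transpose * S.J * g = S.J := by
    show (c * r M * c').transpose * S.J * (c * r M * c') = S.J
    rw [Matrix.transpose_mul, Matrix.transpose_mul,
      show c'.transpose * ((r M).transpose * c.transpose) * S.J * (c * r M * c') =
        c'.transpose * ((r M).transpose * (c.transpose * S.J * c) * r M) * c' by simp only [mul_assoc],
      hform, hrt, ← map_mul, ← map_mul, hiso, ← hform,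
      show c'.transpose * (c.transpose * S.J * c) * c' = (c * c').transpose * S.J * (c * c') by
        rw [Matrix.transpose_mul]; simp only [mul_assoc],
      hcc, Matrix.transpose_one, one_mul, mul_one]
  obtain ⟨y, hy⟩ := S.surj g hg
  refine ⟨y, ?_⟩
  rw [hy]
  show (c * r M * c' + c * r M' * c').charpoly = (M + M').charpoly
  rw [← add_mul, ← mul_add, ← map_add]
  let cu : (Matrix (Fin N) (Fin N) F)ˣ := ⟨c, c', hcc, hcc'⟩
  show ((cu : Matrix (Fin N) (Fin N) F) * r (M + M') *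
    ((cu⁻¹ : (Matrix (Fin N) (Fin N) F)ˣ) : Matrix (Fin N) (Fin N) F)).charpoly = (M + M').charpoly
  rw [Matrix.coe_units_inv, Matrix.charpoly_units_conj]
  exact Matrix.charpoly_reindex e (M + M')

lemma exists_element (h2 : (2 : F) ≠ 0) {n : ℕ} (S : Setup F (n + n) G) {h : F[X]} (hn : h.natDegree = n)
    (hr : Realised h (chi S.J.det)) :
    ∃ y : G, ((S.ρ y : Matrix (Fin (n + n)) (Fin (n + n)) F) + ((S.ρ y)⁻¹ : GL (Fin (n + n)) F)).charpoly = h * h := by
  obtain ⟨ι, _, _, Γ, M, M', hcard, hsym, hdet, hchi, hiso, hinv, hchar⟩ := hr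
  obtain ⟨y, hy⟩ := exists_element' h2 S Γ M M' (by omega) hsym hdet hchi hiso hinv
  exact ⟨y, hy.trans hchar⟩

/-- monic polynomials of degree `m + 2` by their values at `±2` and a cofactor -/
noncomputable def hpoly {m : ℕ} (p : Fin m → F) (u v : F) : F[X] :=
  (X ^ m + ∑ i : Fin m, C (p i) * X ^ (i : ℕ)) * (X ^ 2 - C 4) + (C ((u - v) / 4) * X + C ((u + v) / 2))

lemma hpoly_spec (h2 : (2 : F) ≠ 0) {m : ℕ} (p : Fin m → F) (u v : F) :
    (hpoly p u v).Monic ∧ (hpoly p u v).natDegree = m + 2 ∧ (hpoly p u v).eval 2 = u ∧ (hpoly p u v).eval (-2) = v := by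
  have hP : (X ^ m + ∑ i : Fin m, C (p i) * X ^ (i : ℕ)).Monic := monic_X_pow_add (degree_sum_fin_lt _)
  have hPd : (X ^ m + ∑ i : Fin m, C (p i) * X ^ (i : ℕ)).natDegree = m := by
    refine natDegree_eq_of_degree_eq_some ?_
    rw [degree_add_eq_left_of_degree_lt] <;> rw [degree_X_pow]
    exact degree_sum_fin_lt _
  have hQ : (X ^ 2 - C (4 : F)).Monic := monic_X_pow_sub_C 4 two_ne_zero
  have hmon := hP.mul hQ
  have hd : ((X ^ m + ∑ i : Fin m, C (p i) * X ^ (i : ℕ)) * (X ^ 2 - C (4 : F))).natDegree = m + 2 := by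
    rw [hP.natDegree_mul hQ, hPd, natDegree_X_pow_sub_C]
  have hlow : (C ((u - v) / 4) * X + C ((u + v) / 2)).degree <
      ((X ^ m + ∑ i : Fin m, C (p i) * X ^ (i : ℕ)) * (X ^ 2 - C (4 : F))).degree := by
    rw [degree_eq_natDegree hmon.ne_zero, hd]
    refine lt_of_le_of_lt degree_linear_le ?_
    exact_mod_cast (show 1 < m + 2 by omega)
  refine ⟨hmon.add_of_left hlow, ?_, ?_, ?_⟩
  · rw [hpoly, natDegree_eq_of_degree_eq (degree_add_eq_left_of_degree_lt hlow), hd]
  all_goals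
    have h4 : (4 : F) ≠ 0 := by
      rw [show (4 : F) = 2 * 2 by norm_num]
      exact mul_ne_zero h2 h2
    simp only [hpoly, eval_add, eval_mul, eval_sub, eval_pow, eval_X, eval_C]
    first
      | rw [show ((2 : F)) ^ 2 - 4 = 0 by norm_num]
      | rw [show (-2 : F) ^ 2 - 4 = 0 by norm_num]
  all_goals
    field_simp
    ring

lemma hpoly_inj (h2 : (2 : F) ≠ 0) {m : ℕ} {p p' : Fin m → F} {u v u' v' : F}
    (e : hpoly p u v = hpoly p' u' v') : p = p' ∧ u = u' ∧ v = v' := by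
  obtain ⟨-, -, a, b⟩ := hpoly_spec h2 p u v
  obtain ⟨-, -, a', b'⟩ := hpoly_spec h2 p' u' v'
  have hu : u = u' := by rw [← a, ← a', e]
  have hv : v = v' := by rw [← b, ← b', e]
  subst hu hv
  refine ⟨?_, rfl, rfl⟩
  have h := mul_right_cancel₀ (monic_X_pow_sub_C (4 : F) two_ne_zero).ne_zero (add_right_cancel e)
  funext i
  have := congrArg (coeff · (i : ℕ)) (add_left_cancel h)
  simp only [finsetSum_coeff, coeff_C_mul, coeff_X_pow, mul_ite, mul_one, mul_zero] at this
  rw [Finset.sum_eq_single i (fun j _ hj => if_neg fun h => hj (Fin.ext h.symm)) (by simp),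
    Finset.sum_eq_single i (fun j _ hj => if_neg fun h => hj (Fin.ext h.symm)) (by simp), if_pos rfl, if_pos rfl] at this
  exact this

lemma two_mul_card_pairs (h2 : (2 : F) ≠ 0) {k : F} (hk : k ≠ 0) {δ : ℤ} (hδ : δ = 1 ∨ δ = -1) :
    Fintype.card F ^ 2 ≤ 2 * Nat.card {z : F × F // z.1 * z.2 = 0 ∨ chi (k * (z.1 * z.2)) = δ} := by
  classical
  obtain ⟨d, hd, hd'⟩ := exists_nonsquare h2
  rw [Nat.card_eq_fintype_card, Fintype.card_subtype]
  set s := (Finset.univ : Finset (F × F)).filter fun z => z.1 * z.2 = 0 ∨ chi (k * (z.1 * z.2)) = δ with hs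
  set t := (Finset.univ : Finset (F × F)).filter fun z => ¬ (z.1 * z.2 = 0 ∨ chi (k * (z.1 * z.2)) = δ) with ht
  have hts : t.card ≤ s.card := by
    refine Finset.card_le_card_of_injOn (fun z => (z.1, d * z.2)) (fun z hz => ?_) fun a _ b _ e => ?_
    · obtain ⟨-, hz⟩ := Finset.mem_filter.1 hz
      push Not at hz
      refine Finset.mem_filter.2 ⟨Finset.mem_univ _, Or.inr ?_⟩
      show chi (k * (z.1 * (d * z.2))) = δ
      rw [show k * (z.1 * (d * z.2)) = d * (k * (z.1 * z.2)) by ring, chi_mul, hd']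
      rcases chi_cases (mul_ne_zero hk hz.1) with e | e <;> rcases hδ with e' | e' <;> rw [e] at hz <;> rw [e, e']
      all_goals first | exact absurd e'.symm hz.2 | rfl
    · simp only [Prod.mk.injEq] at e
      exact Prod.ext e.1 (mul_left_cancel₀ hd e.2)
  have hsum : s.card + t.card = Fintype.card F ^ 2 := by
    rw [hs, ht, Finset.card_filter_add_card_filter_not, Finset.card_univ, Fintype.card_prod, sq]
  omega

theorem le_card_classes (h2 : (2 : F) ≠ 0) {n : ℕ} (hn : 2 ≤ n) [Finite G] (S : Setup F (n + n) G) :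
    Fintype.card F ^ n ≤ 2 * Nat.card (ConjClasses G) := by
  classical
  obtain ⟨m, rfl⟩ : ∃ m, n = m + 2 := ⟨n - 2, by omega⟩
  set δ := chi S.J.det with hδ
  have hδc : δ = 1 ∨ δ = -1 := chi_cases S.ndeg
  let A := (Fin m → F) × {z : F × F // z.1 * z.2 = 0 ∨ chi ((-1) ^ (m + 2) * (z.1 * z.2)) = δ}
  have hel : ∀ x : A, ∃ y : G, ((S.ρ y : Matrix (Fin (m + 2 + (m + 2))) (Fin (m + 2 + (m + 2))) F) +
      ((S.ρ y)⁻¹ : GL (Fin (m + 2 + (m + 2))) F)).charpoly = hpoly x.1 x.2.1.1 x.2.1.2 * hpoly x.1 x.2.1.1 x.2.1.2 := by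
    intro x
    obtain ⟨hmon, hdeg, e1, e2⟩ := hpoly_spec h2 x.1 x.2.1.1 x.2.1.2
    refine exists_element h2 S hdeg (realised h2 _ _ hmon hdeg δ hδc ?_)
    rw [Fits, hdeg, e1, e2]
    exact x.2.2
  choose y hy using hel
  have hinj : Function.Injective fun x : A => ConjClasses.mk (y x) := by
    intro x x' e
    obtain ⟨w, hw⟩ := isConj_iff.1 (ConjClasses.mk_eq_mk_iff_isConj.1 e)
    have key : ((S.ρ (y x) : Matrix (Fin (m + 2 + (m + 2))) (Fin (m + 2 + (m + 2))) F) +
        ((S.ρ (y x))⁻¹ : GL (Fin (m + 2 + (m + 2))) F)).charpoly =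
        ((S.ρ (y x') : Matrix (Fin (m + 2 + (m + 2))) (Fin (m + 2 + (m + 2))) F) +
        ((S.ρ (y x'))⁻¹ : GL (Fin (m + 2 + (m + 2))) F)).charpoly := by
      rw [← hw, map_mul, map_mul, map_inv, _root_.mul_inv_rev, _root_.mul_inv_rev, inv_inv, ← mul_assoc (S.ρ w)]
      simp only [Units.val_mul]
      rw [← add_mul, ← mul_add]
      simp only [Matrix.coe_units_inv]
      rw [Matrix.charpoly_units_conj]
    rw [hy, hy] at key
    obtain ⟨hm₁, -, -, -⟩ := hpoly_spec h2 x.1 x.2.1.1 x.2.1.2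
    obtain ⟨hm₂, -, -, -⟩ := hpoly_spec h2 x'.1 x'.2.1.1 x'.2.1.2
    rcases mul_self_eq_mul_self_iff.1 key with e' | e'
    · obtain ⟨a, b, c⟩ := hpoly_inj h2 e'
      exact Prod.ext a (Subtype.ext (Prod.ext b c))
    · exfalso
      have := congrArg leadingCoeff e'
      rw [hm₁.leadingCoeff, leadingCoeff_neg, hm₂.leadingCoeff] at this
      exact h2 (by linear_combination this)
  have hA : Nat.card A ≤ Nat.card (ConjClasses G) := Nat.card_le_card_of_injective _ hinj
  have hp := two_mul_card_pairs h2 (k := (-1) ^ (m + 2)) (pow_ne_zero _ (neg_ne_zero.2 one_ne_zero)) hδc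
  rw [Nat.card_prod, Nat.card_fun, Nat.card_fin, Nat.card_eq_fintype_card (α := F)] at hA
  calc Fintype.card F ^ (m + 2) = Fintype.card F ^ m * Fintype.card F ^ 2 := pow_add _ _ _
    _ ≤ Fintype.card F ^ m * (2 * Nat.card {z : F × F // z.1 * z.2 = 0 ∨ chi ((-1) ^ (m + 2) * (z.1 * z.2)) = δ}) :=
        Nat.mul_le_mul_left _ hp
    _ = 2 * (Fintype.card F ^ m * Nat.card {z : F × F // z.1 * z.2 = 0 ∨ chi ((-1) ^ (m + 2) * (z.1 * z.2)) = δ}) := by ring
    _ ≤ _ := Nat.mul_le_mul_left _ hA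

end OrthClassCount2558
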