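import Mathlib
import Cfsg.Prelude.Def_Classical
import Cfsg.Agent.OrthClassCount.Lower

/-!
Isometry groups of quadratic forms as groups of isometries of a symmetric matrix.
-/

set_option autoImplicit false
set_option linter.unusedSectionVars false

universe u

namespace OrthClassCount2558

open Matrix

variable {F : Type u} [Field F] [Fintype F] {ι : Type} [Fintype ι] [DecidableEq ι] {N : ℕ}

lemma exists_setup' (h2 : (2 : F) ≠ 0) (Q : QuadraticForm F (ι → F))
    (hQ : (QuadraticMap.polarBilin Q).Nondegenerate) (e : ι ≃ Fin N) :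
    ∃ S : Setup F N ↥(Cfsg.isometryGroup F ⇑Q),
      (∀ y v, ((S.ρ y : Matrix (Fin N) (Fin N) F) *ᵥ v) ∘ e = ((y.1 : GL ι F) : Matrix ι ι F) *ᵥ (v ∘ e)) ∧
      ∀ v w, v ⬝ᵥ S.J *ᵥ w = QuadraticMap.polar Q (v ∘ e) (w ∘ e) := by
  classical
  let r := Matrix.reindexAlgEquiv F F e
  set A : Matrix ι ι F := LinearMap.BilinForm.toMatrix' (QuadraticMap.polarBilin Q) with hA
  have hpol : ∀ x y, QuadraticMap.polar Q x y = x ⬝ᵥ A.mulVec y := fun x y => by
    rw [← Matrix.toBilin'_apply', hA, Matrix.toBilin'_toMatrix']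
    rfl
  have hrt : ∀ M, (r M).transpose = r M.transpose := fun M => by simp [r, Matrix.transpose_reindex]
  have hAs : A.transpose = A := by
    ext i j
    rw [Matrix.transpose_apply, hA, LinearMap.BilinForm.toMatrix'_apply, LinearMap.BilinForm.toMatrix'_apply]
    exact QuadraticMap.polar_comm _ _ _
  have hAd : A.det ≠ 0 := by
    rw [hA, ← LinearMap.BilinForm.nondegenerate_toBilin'_iff_det_ne_zero, Matrix.toBilin'_toMatrix']
    exact hQ
  have hkey : ∀ M : Matrix ι ι F, M.transpose * A * M = A ↔ ∀ x, Q (M.mulVec x) = Q x := by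
    intro M
    constructor
    · intro h x
      have e1 : QuadraticMap.polar Q (M.mulVec x) (M.mulVec x) = QuadraticMap.polar Q x x := by
        rw [hpol, hpol, Matrix.mulVec_mulVec, ← Matrix.vecMul_transpose M x, ← Matrix.dotProduct_mulVec,
          Matrix.mulVec_mulVec, ← mul_assoc, h]
      rw [QuadraticMap.polar_self, QuadraticMap.polar_self] at e1
      simp only [smul_eq_mul, nsmul_eq_mul, Nat.cast_ofNat] at e1
      exact mul_left_cancel₀ h2 e1
    · intro h
      refine Matrix.toBilin'.injective (LinearMap.ext fun x => LinearMap.ext fun y => ?_)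
      rw [Matrix.toBilin'_apply', Matrix.toBilin'_apply', ← Matrix.mulVec_mulVec, ← Matrix.mulVec_mulVec,
        Matrix.dotProduct_mulVec x, Matrix.vecMul_transpose, ← hpol, ← hpol]
      simp only [QuadraticMap.polar, ← Matrix.mulVec_add, h]
  have hact : ∀ (M : Matrix ι ι F) (v : Fin N → F), (r M *ᵥ v) ∘ e = M *ᵥ (v ∘ e) := by
    intro M v
    show ((M.submatrix e.symm e.symm) *ᵥ v) ∘ e = _
    rw [Matrix.submatrix_mulVec_equiv]
    funext i
    simp
  refine ⟨{
    ρ := ((r.toAlgHom.toMonoidHom.comp (Units.coeHom (Matrix ι ι F))).comp (Cfsg.isometryGroup F ⇑Q).subtype).toHomUnits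
    J := r A
    inj := ?_
    symm := by rw [hrt, hAs]
    ndeg := by simpa [r] using hAd
    mem := ?_
    surj := ?_ }, fun y v => hact _ v, fun v w => ?_⟩
  · intro a b hab
    exact Subtype.ext (Units.ext (r.injective (congrArg Units.val hab)))
  · intro y
    show (r ((y.1 : GL ι F) : Matrix ι ι F)).transpose * r A * r ((y.1 : GL ι F) : Matrix ι ι F) = r A
    rw [hrt, ← map_mul, ← map_mul]
    exact congrArg r ((hkey _).2 fun x => y.2 x x)
  · intro g hg
    let M : GL ι F := Units.map r.symm.toAlgHom.toMonoidHom g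
    have hM : (M : Matrix ι ι F).transpose * A * M = A := by
      refine r.injective ?_
      rw [map_mul, map_mul, ← hrt]
      have e1 : r (M : Matrix ι ι F) = g := r.apply_symm_apply _
      rw [e1]
      exact hg
    exact ⟨⟨M, fun u _ => (hkey _).1 hM u⟩, Units.ext (r.apply_symm_apply _)⟩
  · rw [hpol, ← hact]
    exact (comp_equiv_dotProduct_comp_equiv v _ e).symm

lemma exists_setup (h2 : (2 : F) ≠ 0) (Q : QuadraticForm F (ι → F))
    (hQ : (QuadraticMap.polarBilin Q).Nondegenerate) (e : ι ≃ Fin N) :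
    Nonempty (Setup F N ↥(Cfsg.isometryGroup F ⇑Q)) :=
  ⟨(exists_setup' h2 Q hQ e).choose⟩

end OrthClassCount2558
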